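import Mathlib

/-!
`Ext` out of a quotient by a regular sequence on `L ⧸ J` when `Ext` out of `L ⧸ J` is free over `L ⧸ J`.
-/

set_option autoImplicit false
set_option backward.isDefEq.respectTransparency false
set_option backward.isDefEq.respectTransparency.types false
set_option linter.unusedSectionVars false
set_option linter.style.haveILetI false
universe u

open scoped Classical Pointwise
open CategoryTheory CategoryTheory.Abelian RingTheory.Sequence

noncomputable section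

namespace Groth.Agent.GrCore

variable {L : Type u} [CommRing L]

/-- `L ⧸ J → L ⧸ J → L ⧸ (J + (f))`. -/
def mulSES (J : Ideal L) (f : L) : ShortComplex (ModuleCat.{u} L) :=
  ShortComplex.mk (X₁ := ModuleCat.of L (L ⧸ J)) (X₂ := ModuleCat.of L (L ⧸ J))
    (X₃ := ModuleCat.of L (L ⧸ (J ⊔ Ideal.span {f})))
    (ModuleCat.ofHom (f • (LinearMap.id : (L ⧸ J) →ₗ[L] L ⧸ J)))
    (ModuleCat.ofHom (Submodule.factor (le_sup_left : J ≤ J ⊔ Ideal.span {f})))
    (ModuleCat.hom_ext (LinearMap.ext fun z => by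
      obtain ⟨a, rfl⟩ := Submodule.Quotient.mk_surjective J z
      show Submodule.factor (le_sup_left : J ≤ J ⊔ Ideal.span {f}) (f • Submodule.Quotient.mk a) = 0
      rw [← Submodule.Quotient.mk_smul]
      exact (Submodule.Quotient.mk_eq_zero _).2 (Ideal.mul_mem_right a _ (Ideal.mem_sup_right (Ideal.mem_span_singleton_self f)))))

lemma mem_range_mul_iff (J : Ideal L) (f : L) (z : L ⧸ J) :
    Submodule.factor (le_sup_left : J ≤ J ⊔ Ideal.span {f}) z = 0 ↔ ∃ w, f • w = z := by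
  obtain ⟨a, rfl⟩ := Submodule.Quotient.mk_surjective J z
  constructor
  · intro h
    obtain ⟨b, hb, y, hy, rfl⟩ := Submodule.mem_sup.1 ((Submodule.Quotient.mk_eq_zero (J ⊔ Ideal.span {f})).1 h)
    obtain ⟨t, rfl⟩ := Ideal.mem_span_singleton'.1 hy
    refine ⟨Submodule.Quotient.mk t, ?_⟩
    rw [← Submodule.Quotient.mk_smul, Submodule.Quotient.eq, smul_eq_mul]
    simpa [mul_comm f t] using J.neg_mem hb
  · rintro ⟨w, hw⟩
    obtain ⟨t, rfl⟩ := Submodule.Quotient.mk_surjective J w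
    rw [← hw, ← Submodule.Quotient.mk_smul]
    exact (Submodule.Quotient.mk_eq_zero _).2 (Ideal.mul_mem_right t _ (Ideal.mem_sup_right (Ideal.mem_span_singleton_self f)))

lemma mulSES_shortExact (J : Ideal L) (f : L) (hf : IsSMulRegular (L ⧸ J) f) : (mulSES J f).ShortExact where
  exact := by
    rw [ShortComplex.moduleCat_exact_iff]
    intro z hz
    exact (mem_range_mul_iff J f z).1 hz
  mono_f := (ModuleCat.mono_iff_injective _).2 fun _ _ h => hf h
  epi_g := (ModuleCat.epi_iff_surjective _).2 (Submodule.factor_surjective (le_sup_left : J ≤ J ⊔ Ideal.span {f}))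

section step

variable (J : Ideal L) (f : L) (Y : ModuleCat.{u} L)

lemma precomp_f {i : ℕ} (a : Ext.{u} (ModuleCat.of L (L ⧸ J)) Y i) :
    (Ext.mk₀ (mulSES J f).f).comp a (zero_add i) = f • a := by
  show (Ext.mk₀ (f • 𝟙 (ModuleCat.of L (L ⧸ J)))).comp a (zero_add i) = f • a
  rw [Ext.mk₀_smul, Ext.smul_comp, Ext.mk₀_id_comp]

variable {J f Y}

lemma eq_zero_of_smul_equiv {Λ : Type u} {X : Type u} [AddCommGroup X] [Module L X] (e : X ≃ₗ[L] (Λ →₀ L ⧸ J))
    (hf : IsSMulRegular (L ⧸ J) f) {x : X} (h : f • x = 0) : x = 0 := by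
  refine e.injective ?_
  rw [map_zero]
  ext a
  have h1 := DFunLike.congr_fun (congrArg e h) a
  rw [map_smul, map_zero, Finsupp.smul_apply, Finsupp.zero_apply] at h1
  exact hf (show f • _ = f • (0 : L ⧸ J) by rw [h1, smul_zero])

theorem ext_step_zero {Λ : Type u} (hf : IsSMulRegular (L ⧸ J) f)
    (e : Ext.{u} (ModuleCat.of L (L ⧸ J)) Y 0 ≃ₗ[L] (Λ →₀ L ⧸ J)) :
    Subsingleton (Ext.{u} (ModuleCat.of L (L ⧸ (J ⊔ Ideal.span {f}))) Y 0) :=
  subsingleton_of_forall_eq 0 fun x => by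
    obtain ⟨g, rfl⟩ := (Ext.mk₀_bijective _ _).2 x
    have h0 : (mulSES J f).g ≫ g = 0 := by
      refine (Ext.mk₀_bijective _ _).1 (Eq.trans (eq_zero_of_smul_equiv e hf ?_) (Ext.mk₀_zero _ _).symm)
      rw [← precomp_f, Ext.mk₀_comp_mk₀, ← Category.assoc, (mulSES J f).zero, Limits.zero_comp, Ext.mk₀_zero]
    haveI := (mulSES_shortExact J f hf).epi_g
    rw [(cancel_epi (mulSES J f).g).1 (h0.trans Limits.comp_zero.symm), Ext.mk₀_zero]

theorem ext_step {Λ Λ' : Type u} (hf : IsSMulRegular (L ⧸ J) f) (i : ℕ)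
    (e : Ext.{u} (ModuleCat.of L (L ⧸ J)) Y i ≃ₗ[L] (Λ →₀ L ⧸ J))
    (e' : Ext.{u} (ModuleCat.of L (L ⧸ J)) Y (i + 1) ≃ₗ[L] (Λ' →₀ L ⧸ J)) :
    Nonempty (Ext.{u} (ModuleCat.of L (L ⧸ (J ⊔ Ideal.span {f}))) Y (i + 1) ≃ₗ[L]
      (Λ →₀ L ⧸ (J ⊔ Ideal.span {f}))) := by
  have hS := mulSES_shortExact J f hf
  let δ : (Λ →₀ L ⧸ J) →ₗ[L] Ext.{u} (ModuleCat.of L (L ⧸ (J ⊔ Ideal.span {f}))) Y (i + 1) :=
    hS.extClass.precompOfLinear L Y (add_comm 1 i) ∘ₗ e.symm.toLinearMap
  let q : (Λ →₀ L ⧸ J) →ₗ[L] (Λ →₀ L ⧸ (J ⊔ Ideal.span {f})) :=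
    Finsupp.mapRange.linearMap (Submodule.factor (le_sup_left : J ≤ J ⊔ Ideal.span {f}))
  have hqs : Function.Surjective q := Finsupp.mapRange_surjective _ (map_zero _) (Submodule.factor_surjective _)
  have hδs : Function.Surjective δ := fun x => by
    have h0 : (Ext.mk₀ (mulSES J f).g).comp x (zero_add (i + 1)) = 0 := by
      refine eq_zero_of_smul_equiv e' hf ?_
      rw [← precomp_f, Ext.mk₀_comp_mk₀_assoc, (mulSES J f).zero, Ext.mk₀_zero, Ext.zero_comp]
    obtain ⟨y, hy⟩ := Ext.contravariant_sequence_exact₃ hS Y x h0 (add_comm 1 i)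
    refine ⟨e y, ?_⟩
    show hS.extClass.comp (e.symm (e y)) (add_comm 1 i) = x
    rw [e.symm_apply_apply]
    exact hy
  have hker : LinearMap.ker δ = LinearMap.ker q := by
    ext z
    rw [LinearMap.mem_ker, LinearMap.mem_ker]
    constructor
    · intro hz
      obtain ⟨y, hy⟩ := Ext.contravariant_sequence_exact₁ hS Y (e.symm z) (add_comm 1 i) hz
      change (Ext.mk₀ (mulSES J f).f).comp y (zero_add i) = e.symm z at hy
      rw [precomp_f] at hy
      have h1 : f • e y = z := by rw [← map_smul, hy, e.apply_symm_apply]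
      ext a
      show Submodule.factor (le_sup_left : J ≤ J ⊔ Ideal.span {f}) (z a) = 0
      rw [mem_range_mul_iff]
      exact ⟨e y a, by rw [← h1]; rfl⟩
    · intro hz
      have h1 : ∀ a, ∃ w, f • w = z a := fun a => (mem_range_mul_iff J f (z a)).1 (DFunLike.congr_fun hz a)
      choose w hw using h1
      let w' : Λ →₀ L ⧸ J := Finsupp.onFinset z.support (fun a => if a ∈ z.support then w a else 0) fun a ha => by
        by_contra h
        rw [if_neg h] at ha
        exact ha rfl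
      have h2 : z = f • w' := by
        ext a
        by_cases ha : a ∈ z.support
        · simp only [w', Finsupp.smul_apply, Finsupp.onFinset_apply, if_pos ha, hw]
        · simp only [w', Finsupp.smul_apply, Finsupp.onFinset_apply, if_neg ha, smul_zero,
            Finsupp.notMem_support_iff.1 ha]
      show hS.extClass.comp (e.symm z) (add_comm 1 i) = 0
      rw [h2, map_smul, ← precomp_f]
      exact hS.extClass_comp_assoc _
  exact ⟨((LinearMap.quotKerEquivOfSurjective δ hδs).symm.trans (Submodule.quotEquivOfEq _ _ hker)).trans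
    (LinearMap.quotKerEquivOfSurjective q hqs)⟩

end step

/-- Shift an index family up by one. -/
def shiftFam (Λ : ℕ → Type u) : ℕ → Type u
  | 0 => PEmpty
  | i + 1 => Λ i

theorem climb (Y : ModuleCat.{u} L) : ∀ (fs : List L) (J : Ideal L) (Λ : ℕ → Type u),
    (∀ i, Nonempty (Ext.{u} (ModuleCat.of L (L ⧸ J)) Y i ≃ₗ[L] (Λ i →₀ L ⧸ J))) →
    IsWeaklyRegular (L ⧸ J) fs →
    (∀ i < fs.length, Subsingleton (Ext.{u} (ModuleCat.of L (L ⧸ (J ⊔ Ideal.ofList fs))) Y i)) ∧
      ∀ i, Nonempty (Ext.{u} (ModuleCat.of L (L ⧸ (J ⊔ Ideal.ofList fs))) Y (i + fs.length) ≃ₗ[L]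
        (Λ i →₀ L ⧸ (J ⊔ Ideal.ofList fs))) := by
  intro fs
  induction fs with
  | nil =>
    intro J Λ hΛ _
    rw [Ideal.ofList_nil, sup_bot_eq]
    exact ⟨fun i hi => absurd hi (Nat.not_lt_zero i), hΛ⟩
  | cons f fs ih =>
    intro J Λ hΛ hw
    rw [isWeaklyRegular_cons_iff] at hw
    let J' := J ⊔ Ideal.span {f}
    let π : (L ⧸ J) →ₗ[L] L ⧸ J' := Submodule.factor le_sup_left
    have hk : f • (⊤ : Submodule L (L ⧸ J)) = LinearMap.ker π := by
      ext z
      rw [LinearMap.mem_ker, mem_range_mul_iff, Submodule.mem_smul_pointwise_iff_exists]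
      exact ⟨fun ⟨y, _, hy⟩ => ⟨y, hy⟩, fun ⟨y, hy⟩ => ⟨y, trivial, hy⟩⟩
    have hreg' : IsWeaklyRegular (L ⧸ J') fs :=
      (((Submodule.quotEquivOfEq _ _ hk).trans (LinearMap.quotKerEquivOfSurjective π
        (Submodule.factor_surjective _))).isWeaklyRegular_congr fs).1 hw.2
    have hΛ' : ∀ i, Nonempty (Ext.{u} (ModuleCat.of L (L ⧸ J')) Y i ≃ₗ[L] (shiftFam Λ i →₀ L ⧸ J')) := fun i => by
      cases i with
      | zero =>
        haveI := ext_step_zero hw.1 (hΛ 0).some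
        haveI : Subsingleton (shiftFam Λ 0 →₀ L ⧸ J') :=
          subsingleton_of_forall_eq 0 fun z => Finsupp.ext fun a => (a : PEmpty).elim
        exact ⟨LinearEquiv.ofBijective 0 ⟨fun _ _ _ => Subsingleton.elim _ _, fun _ => ⟨0, Subsingleton.elim _ _⟩⟩⟩
      | succ i => exact ext_step hw.1 i (hΛ i).some (hΛ (i + 1)).some
    obtain ⟨h1, h2⟩ := ih J' (shiftFam Λ) hΛ' hreg'
    have hJ : J ⊔ Ideal.ofList (f :: fs) = J' ⊔ Ideal.ofList fs := by rw [Ideal.ofList_cons, sup_assoc]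
    rw [hJ, List.length_cons]
    refine ⟨fun i hi => ?_, fun i => ?_⟩
    · rcases Nat.lt_succ_iff_lt_or_eq.1 hi with hi | rfl
      · exact h1 i hi
      · obtain ⟨e0⟩ := h2 0
        rw [Nat.zero_add] at e0
        haveI : Subsingleton (shiftFam Λ 0 →₀ L ⧸ (J' ⊔ Ideal.ofList fs)) :=
          subsingleton_of_forall_eq 0 fun z => Finsupp.ext fun a => (a : PEmpty).elim
        exact e0.toEquiv.subsingleton
    · rw [show i + (fs.length + 1) = i + 1 + fs.length by omega]
      exact h2 (i + 1)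

end Groth.Agent.GrCore
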