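import Groth.Agent.GrLCLib.Bridge
import Groth.Agent.GrLCLib.ExtStarInj

/-!
`Ext` out of `R ⧸ c` (`c` homogeneous) computed by a graded injective resolution, as a graded module.
-/

set_option autoImplicit false
set_option backward.isDefEq.respectTransparency false
set_option backward.isDefEq.respectTransparency.types false
set_option linter.unusedSectionVars false
set_option linter.style.haveILetI false
universe u

open scoped Classical
open DirectSum CategoryTheory CategoryTheory.Abelian Groth.Agent.GrLCLib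

noncomputable section

namespace Groth.Agent.GrCore

section congr

variable {R : Type u} [CommRing R]

theorem ext_congr {A A' B B' : ModuleCat.{u} R} (a : A ≅ A') (b : B ≅ B') (i : ℕ) :
    Nonempty (Ext.{u} A B i ≃ₗ[R] Ext.{u} A' B' i) := by
  refine ⟨LinearEquiv.ofBijective
    ((Ext.mk₀ a.inv).precompOfLinear R B' (zero_add i) ∘ₗ (Ext.mk₀ b.hom).postcompOfLinear R A (add_zero i))
    ⟨(injective_iff_map_eq_zero _).2 fun x hx => ?_, fun y => ⟨((Ext.mk₀ a.hom).comp y (zero_add i)).comp (Ext.mk₀ b.inv) (add_zero i), ?_⟩⟩⟩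
  · change (Ext.mk₀ a.inv).comp (x.comp (Ext.mk₀ b.hom) (add_zero i)) (zero_add i) = 0 at hx
    have h1 : x.comp (Ext.mk₀ b.hom) (add_zero i) = 0 := by
      have h2 := congrArg (fun t => (Ext.mk₀ a.hom).comp t (zero_add i)) hx
      simpa using h2
    have h3 := congrArg (fun t => t.comp (Ext.mk₀ b.inv) (add_zero i)) h1
    simpa using h3
  · show (Ext.mk₀ a.inv).comp (((((Ext.mk₀ a.hom).comp y (zero_add i)).comp (Ext.mk₀ b.inv) (add_zero i)).comp
      (Ext.mk₀ b.hom) (add_zero i))) (zero_add i) = y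
    simp

end congr

variable {ι : Type} [AddCommGroup ι] [DecidableEq ι]
variable {R : Type u} [CommRing R] {𝒜 : ι → AddSubgroup R} [GradedRing 𝒜]
variable {M : Type u} [AddCommGroup M] [Module R M] {ℳ : ι → AddSubgroup M} [DirectSum.Decomposition ℳ]
  [SetLike.GradedSMul 𝒜 ℳ]
variable (E : GrLC.StarInjRes 𝒜 ℳ) (c : Ideal R)

/-- The cycles killed by `c`. -/
def zc (j : ℕ) : Submodule R (E.X j).carrier := LinearMap.ker (E.d j) ⊓ Submodule.torsionBySet R (E.X j).carrier c

/-- The boundaries of elements killed by `c`. -/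
def bc : ∀ j : ℕ, Submodule R (E.X j).carrier
  | 0 => ⊥
  | j + 1 => (Submodule.torsionBySet R (E.X j).carrier c).map (E.d j)

/-- The cohomology of the part killed by `c`. -/
abbrev Tq (j : ℕ) : Type u := ↥(zc E c j) ⧸ (bc E c j).comap (zc E c j).subtype

lemma mem_zc {j : ℕ} {z : (E.X j).carrier} : z ∈ zc E c j ↔ E.d j z = 0 ∧ ∀ r ∈ c, r • z = 0 := by
  rw [zc, Submodule.mem_inf, LinearMap.mem_ker, Submodule.mem_torsionBySet_iff]
  exact and_congr Iff.rfl ⟨fun h r hr => h ⟨r, hr⟩, fun h r => h r r.2⟩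

lemma tq_kill (j : ℕ) : ∀ r ∈ c, ∀ n : Tq E c j, r • n = 0 := by
  intro r hr n
  obtain ⟨z, rfl⟩ := Submodule.Quotient.mk_surjective _ n
  rw [← Submodule.Quotient.mk_smul, show r • z = 0 from Subtype.ext ((mem_zc E c).1 z.2 |>.2 r hr)]
  rfl

section grading

variable (hc : c.IsHomogeneous 𝒜)

include hc in
lemma homog_torsion (X : GrLC.GMod.{u} 𝒜) : Homog X.gr (Submodule.torsionBySet R X.carrier c) := by
  intro x hx g
  rw [Submodule.mem_torsionBySet_iff] at hx ⊢
  rintro ⟨r, hr⟩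
  show r • pr X.gr g x = 0
  rw [← DirectSum.sum_support_decompose 𝒜 r, Finset.sum_smul]
  refine Finset.sum_eq_zero fun e _ => ?_
  have h1 := pr_smul 𝒜 X.gr (DirectSum.decompose 𝒜 r e).2 (e + g) x
  rw [add_sub_cancel_left] at h1
  rw [← h1, hx ⟨_, hc e hr⟩, map_zero]

include hc in
lemma homog_zc (j : ℕ) : Homog (E.X j).gr (zc E c j) := fun x hx g =>
  ⟨homog_ker (E.X j).gr (E.X (j + 1)).gr (E.d_grHom j) x hx.1 g, homog_torsion c hc (E.X j) x hx.2 g⟩

include hc in
lemma homog_bc : ∀ j : ℕ, Homog (E.X j).gr (bc E c j)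
  | 0 => fun x hx g => by
    rw [bc, Submodule.mem_bot] at hx ⊢
    rw [hx, map_zero]
  | j + 1 => by
    rintro _ ⟨x, hx, rfl⟩ g
    exact ⟨pr (E.X j).gr g x, homog_torsion c hc (E.X j) x hx g,
      (pr_map (E.X j).gr (E.X (j + 1)).gr (E.d_grHom j) g x).symm⟩

/-- The pieces of `Tq`. -/
def tqGr (j : ℕ) : ι → AddSubgroup (Tq E c j) :=
  quotPiece (subPiece (E.X j).gr (zc E c j)) ((bc E c j).comap (zc E c j).subtype)

instance tqGr_gradedSMul (j : ℕ) : SetLike.GradedSMul 𝒜 (tqGr E c j) :=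
  ⟨fun {_ _ r _} hr hm => by
    obtain ⟨x, hx, rfl⟩ := hm
    exact ⟨r • x, SetLike.GradedSMul.smul_mem (A := 𝒜) (B := subPiece (E.X j).gr (zc E c j)) hr hx,
      map_smul (Submodule.mkQ ((bc E c j).comap (zc E c j).subtype)) r x⟩⟩

/-- The grading of `Tq`. -/
@[instance_reducible]
def tqDec (j : ℕ) : DirectSum.Decomposition (tqGr E c j) :=
  letI := subDec (E.X j).gr (zc E c j) (homog_zc E c hc j)
  quotDec (subPiece (E.X j).gr (zc E c j)) _ (fun z hz g => by
    show ((pr (subPiece (E.X j).gr (zc E c j)) g z : ↥(zc E c j)) : (E.X j).carrier) ∈ bc E c j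
    have h1 : ((pr (subPiece (E.X j).gr (zc E c j)) g z : ↥(zc E c j)) : (E.X j).carrier) =
        pr (E.X j).gr g z :=
      (pr_map _ _ (subtype_grHom (E.X j).gr (zc E c j)) g z).symm
    rw [h1]
    exact homog_bc E c hc j _ hz g)

end grading

section ext

variable [IsNoetherianRing R]

/-- The map `1 ↦ z`. -/
def homOf {Y : Type u} [AddCommGroup Y] [Module R Y] (z : Y) (hz : ∀ r ∈ c, r • z = 0) : (R ⧸ c) →ₗ[R] Y :=
  Submodule.liftQ c (LinearMap.toSpanSingleton R Y z) fun r hr => hz r hr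

lemma kill_one {Y : Type u} [AddCommGroup Y] [Module R Y] (f : (R ⧸ c) →ₗ[R] Y) {r : R} (hr : r ∈ c) :
    r • f (Submodule.Quotient.mk 1) = 0 := by
  rw [← map_smul, ← Submodule.Quotient.mk_smul, (Submodule.Quotient.mk_eq_zero c).2 (by simpa using hr), map_zero]

lemma homOf_one {Y : Type u} [AddCommGroup Y] [Module R Y] (z : Y) (hz : ∀ r ∈ c, r • z = 0) :
    homOf c z hz (Submodule.Quotient.mk 1) = z := by
  show (LinearMap.toSpanSingleton R Y z) 1 = z
  simp

variable (hc : c.IsHomogeneous 𝒜)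

include hc in
lemma subsingleton_ext_quot (X : GrLC.GMod.{u} 𝒜) (hX : GrLC.IsStarInj 𝒜 X.gr) (i : ℕ) :
    Subsingleton (Ext.{u} (ModuleCat.of R (R ⧸ c)) (ModuleCat.of R X.carrier) (i + 1)) := by
  let Q : GrLC.GMod.{u} 𝒜 := quotObj 𝒜 𝒜 c (fun x hx g => hc g hx)
  haveI : Module.Finite R Q.carrier := inferInstanceAs (Module.Finite R (R ⧸ c))
  exact subsingleton_ext_starInj hX i Q

include hc in
theorem ext_one_cyc (j : ℕ) :
    Nonempty (Tq E c (j + 1) ≃ₗ[R] Ext.{u} (ModuleCat.of R (R ⧸ c)) (cyc E j) 1) := by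
  have hS := stepSES_shortExact E j
  let φ : ↥(zc E c (j + 1)) → (ModuleCat.of R (R ⧸ c) ⟶ cyc E (j + 1)) := fun z =>
    ModuleCat.ofHom (homOf c (⟨z.1, ((mem_zc E c).1 z.2).1⟩ : ↥(LinearMap.ker (E.d (j + 1))))
      fun r hr => Subtype.ext (((mem_zc E c).1 z.2).2 r hr))
  have hφ1 : ∀ z, ((φ z).hom (Submodule.Quotient.mk 1) : ↥(LinearMap.ker (E.d (j + 1)))).1 = z.1 := fun z =>
    congrArg Subtype.val (homOf_one c _ _)
  let Φ : ↥(zc E c (j + 1)) →ₗ[R] Ext.{u} (ModuleCat.of R (R ⧸ c)) (cyc E j) 1 :=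
    { toFun := fun z => (Ext.mk₀ (φ z)).comp hS.extClass (zero_add 1)
      map_add' := fun a b => by
        have : φ (a + b) = φ a + φ b := ModuleCat.hom_ext (Submodule.linearMap_qext _ (LinearMap.ext_ring (by
          apply Subtype.ext
          exact (hφ1 (a + b)).trans (congrArg₂ (· + ·) (hφ1 a) (hφ1 b)).symm)))
        rw [this, Ext.mk₀_add]
        exact Ext.add_comp _ _ _ _
      map_smul' := fun r a => by
        have : φ (r • a) = r • φ a := ModuleCat.hom_ext (Submodule.linearMap_qext _ (LinearMap.ext_ring (by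
          apply Subtype.ext
          exact (hφ1 (r • a)).trans (congrArg (r • ·) (hφ1 a)).symm)))
        rw [this, Ext.mk₀_smul]
        exact Ext.smul_comp _ _ _ _ }
  have hvan := subsingleton_ext_quot c hc (E.X j) (E.starInj j) 0
  have hsurj : Function.Surjective Φ := fun y => by
    obtain ⟨x, hx⟩ := Ext.covariant_sequence_exact₁ _ hS y (@Subsingleton.elim _ hvan _ _) (zero_add 1)
    obtain ⟨f, rfl⟩ := (Ext.mk₀_bijective _ _).2 x
    let w : ↥(LinearMap.ker (E.d (j + 1))) := f.hom (Submodule.Quotient.mk 1)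
    have hw : (w : (E.X (j + 1)).carrier) ∈ zc E c (j + 1) := (mem_zc E c).2 ⟨w.2, fun r hr => by
      show ((r • w : ↥(LinearMap.ker (E.d (j + 1)))) : (E.X (j + 1)).carrier) = 0
      rw [show r • w = 0 from kill_one c f.hom hr]
      rfl⟩
    refine ⟨⟨w, hw⟩, ?_⟩
    have hf : φ ⟨w, hw⟩ = f := ModuleCat.hom_ext (Submodule.linearMap_qext _ (LinearMap.ext_ring (by
      apply Subtype.ext
      exact hφ1 _)))
    show (Ext.mk₀ (φ ⟨w, hw⟩)).comp hS.extClass (zero_add 1) = y
    rw [hf]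
    exact hx
  have hker : LinearMap.ker Φ = (bc E c (j + 1)).comap (zc E c (j + 1)).subtype := by
    ext z
    rw [LinearMap.mem_ker, Submodule.mem_comap]
    constructor
    · intro hz
      obtain ⟨x, hx⟩ := Ext.covariant_sequence_exact₃ _ hS (Ext.mk₀ (φ z)) (zero_add 1) hz
      obtain ⟨g, rfl⟩ := (Ext.mk₀_bijective _ _).2 x
      rw [Ext.mk₀_comp_mk₀] at hx
      have h1 := (Ext.mk₀_bijective _ _).1 hx
      refine ⟨g.hom (Submodule.Quotient.mk 1), ?_, ?_⟩
      · rw [SetLike.mem_coe, Submodule.mem_torsionBySet_iff]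
        intro r
        exact kill_one c g.hom r.2
      · refine Eq.trans ?_ (hφ1 z)
        rw [← h1]
        rfl
    · rintro ⟨w, hw, hwz⟩
      have h1 : φ z = ModuleCat.ofHom (homOf c w (fun r hr => by
          rw [SetLike.mem_coe, Submodule.mem_torsionBySet_iff] at hw
          exact hw ⟨r, hr⟩)) ≫ (stepSES E j).g :=
        ModuleCat.hom_ext (Submodule.linearMap_qext _ (LinearMap.ext_ring (by
          apply Subtype.ext
          refine (hφ1 z).trans (hwz.symm.trans ?_)
          exact (congrArg (E.d j) (homOf_one c w _)).symm)))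
      show (Ext.mk₀ (φ z)).comp hS.extClass (zero_add 1) = 0
      rw [h1, ← Ext.mk₀_comp_mk₀, Ext.comp_assoc_of_second_deg_zero, hS.comp_extClass, Ext.comp_zero]
  exact ⟨(Submodule.quotEquivOfEq _ _ hker.symm).trans (LinearMap.quotKerEquivOfSurjective Φ hsurj)⟩

include hc in
theorem ext_shift (q : ℕ) : ∀ j : ℕ, Nonempty (Tq E c (j + q + 1) ≃ₗ[R]
    Ext.{u} (ModuleCat.of R (R ⧸ c)) (cyc E j) (q + 1)) := by
  induction q with
  | zero => intro j; exact ext_one_cyc E c hc j
  | succ q ih =>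
    intro j
    rw [show j + (q + 1) = j + 1 + q by omega]
    obtain ⟨e⟩ := ih (j + 1)
    have hS := stepSES_shortExact E j
    have h1 := subsingleton_ext_quot c hc (E.X j) (E.starInj j) q
    have h2 := subsingleton_ext_quot c hc (E.X j) (E.starInj j) (q + 1)
    refine ⟨e ≪≫ₗ LinearEquiv.ofBijective (hS.extClass.postcompOfLinear R (ModuleCat.of R (R ⧸ c)) rfl)
      ⟨(injective_iff_map_eq_zero _).2 fun x hx => ?_, fun y => ?_⟩⟩
    · obtain ⟨y, rfl⟩ := Ext.covariant_sequence_exact₃ _ hS x rfl hx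
      rw [@Subsingleton.elim _ h1 y 0]
      simp
    · exact Ext.covariant_sequence_exact₁ _ hS y (@Subsingleton.elim _ h2 _ _) rfl

include hc in
theorem ext_equiv (i : ℕ) :
    Nonempty (Tq E c i ≃ₗ[R] Ext.{u} (ModuleCat.of R (R ⧸ c)) (ModuleCat.of R M) i) := by
  cases i with
  | zero =>
    have hbot : (bc E c 0).comap (zc E c 0).subtype = ⊥ := by
      rw [bc, Submodule.comap_bot]
      exact Submodule.ker_subtype _
    let ψ : ↥(zc E c 0) →ₗ[R] ((R ⧸ c) →ₗ[R] M) :=
      { toFun := fun z => homOf c ((cycZeroEquiv E).symm ⟨z.1, ((mem_zc E c).1 z.2).1⟩) fun r hr => by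
          rw [← map_smul, show r • (⟨z.1, _⟩ : ↥(LinearMap.ker (E.d 0))) = 0 from
            Subtype.ext (((mem_zc E c).1 z.2).2 r hr), map_zero]
        map_add' := fun a b => Submodule.linearMap_qext _ (LinearMap.ext_ring (by
          simp only [LinearMap.comp_apply, Submodule.mkQ_apply, LinearMap.add_apply, homOf_one]
          rw [← map_add]
          rfl))
        map_smul' := fun r a => Submodule.linearMap_qext _ (LinearMap.ext_ring (by
          simp only [LinearMap.comp_apply, Submodule.mkQ_apply, LinearMap.smul_apply, RingHom.id_apply, homOf_one]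
          rw [← map_smul]
          rfl)) }
    have hψ : ∀ z, ψ z (Submodule.Quotient.mk 1) = (cycZeroEquiv E).symm ⟨z.1, ((mem_zc E c).1 z.2).1⟩ := fun z =>
      homOf_one c _ _
    have hb : Function.Bijective ψ := by
      refine ⟨(injective_iff_map_eq_zero _).2 fun z hz => Subtype.ext ?_, fun f => ?_⟩
      · have h1 := hψ z
        rw [hz, LinearMap.zero_apply] at h1
        have h2 := (cycZeroEquiv E).symm.injective (h1.symm.trans (map_zero _).symm)
        exact congrArg (fun t : ↥(LinearMap.ker (E.d 0)) => (t : (E.X 0).carrier)) h2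
      · let w := cycZeroEquiv E (f (Submodule.Quotient.mk 1))
        have hw : (w : (E.X 0).carrier) ∈ zc E c 0 := (mem_zc E c).2 ⟨w.2, fun r hr => by
          show ((r • w : ↥(LinearMap.ker (E.d 0))) : (E.X 0).carrier) = 0
          rw [show r • w = 0 from by rw [← map_smul, kill_one c f hr, map_zero]]
          rfl⟩
        exact ⟨⟨w, hw⟩, Submodule.linearMap_qext _ (LinearMap.ext_ring ((hψ _).trans ((cycZeroEquiv E).symm_apply_apply _)))⟩
    exact ⟨(Submodule.quotEquivOfEqBot _ hbot).trans ((LinearEquiv.ofBijective ψ hb).trans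
      (Ext.linearEquiv₀.trans ModuleCat.homLinearEquiv).symm)⟩
  | succ i =>
    obtain ⟨e⟩ := ext_shift E c hc i 0
    rw [Nat.zero_add] at e
    obtain ⟨w⟩ := ext_congr (Iso.refl (ModuleCat.of R (R ⧸ c))) (cycZeroEquiv E).symm.toModuleIso (i + 1)
    exact ⟨e.trans w⟩

end ext

end Groth.Agent.GrCore
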