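import Groth.Agent.GrCore.Free
import Groth.Agent.GrCore.ExtTor
import Groth.Agent.GrCore.Climb
import Groth.Agent.GrLCLib.Cofree
import Groth.Agent.ExtBC.Basic
import Groth.Prelude.Def_GrLC2

/-!
Bass numbers at a prime and at its homogeneous core.
-/

set_option autoImplicit false
set_option backward.isDefEq.respectTransparency false
set_option backward.isDefEq.respectTransparency.types false
set_option linter.unusedSectionVars false
set_option linter.style.haveILetI false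
universe u

open scoped Classical TensorProduct
open DirectSum CategoryTheory CategoryTheory.Abelian Groth.Agent.GrLCLib

noncomputable section

namespace Groth.Agent.GrCore

variable {ι : Type} [AddCommGroup ι] [DecidableEq ι]
variable {R : Type u} [CommRing R] [IsNoetherianRing R] {𝒜 : ι → AddSubgroup R} [GradedRing 𝒜]
variable {M : Type u} [AddCommGroup M] [Module R M] {ℳ : ι → AddSubgroup M} [DirectSum.Decomposition ℳ]
  [SetLike.GradedSMul 𝒜 ℳ]
variable (E : GrLC.StarInjRes 𝒜 ℳ) (P : Ideal R) [P.IsPrime] [(co 𝒜 P).IsPrime]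

local notation "L" => Localization.AtPrime P

theorem ext_loc {Λ : ℕ → Type u} {x : ∀ i, Λ i → Tq E (co 𝒜 P) i}
    (hx : ∀ i, IsCoreBasis 𝒜 (co 𝒜 P) (x i)) (i : ℕ) :
    Nonempty (Ext.{u} (ModuleCat.of L (L ⧸ coLoc 𝒜 P)) (ModuleCat.of L (LocalizedModule P.primeCompl M)) i
      ≃ₗ[L] (Λ i →₀ L ⧸ coLoc 𝒜 P)) := by
  obtain ⟨e1⟩ := ext_equiv E (co 𝒜 P) (Ideal.homogeneousCore 𝒜 P).isHomogeneous i
  obtain ⟨e2⟩ := ExtBC.nonempty_ext_baseChange (A := R) L M i (R ⧸ co 𝒜 P)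
  obtain ⟨e3⟩ := ext_congr (Algebra.TensorProduct.quotIdealMapEquivTensorQuot L (co 𝒜 P)).symm.toLinearEquiv.toModuleIso
    (LocalizedModule.equivTensorProduct P.primeCompl M).symm.toModuleIso i
  obtain ⟨e4⟩ := loc_free 𝒜 P (hx i) (tq_kill E (co 𝒜 P) i)
  exact ⟨((e3.symm.trans e2.symm).trans (e1.symm.baseChange R L)).trans
    ((LocalizedModule.equivTensorProduct P.primeCompl _).symm.trans e4)⟩

variable [Module.Free ℤ ι] [Module.Finite ℤ ι]

/-- Bass numbers at `P` through bases at the core. -/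
theorem bassNum_eq {Λ : ℕ → Type u} {x : ∀ i, Λ i → Tq E (co 𝒜 P) i}
    (hx : ∀ i, IsCoreBasis 𝒜 (co 𝒜 P) (x i)) {d : ℕ} (hd : (P.map (Ideal.Quotient.mk (co 𝒜 P))).height = d) :
    (∀ i, i < d → GrLC.bassNum P M i = 0) ∧ ∀ i, GrLC.bassNum P M (i + d) = ENat.card (Λ i) := by
  obtain ⟨fs, hlen, hw, hmax⟩ := exists_params 𝒜 P hd
  obtain ⟨h1, h2⟩ := climb (ModuleCat.of L (LocalizedModule P.primeCompl M)) fs (coLoc 𝒜 P) Λ
    (ext_loc E P hx) hw
  rw [hmax, hlen] at h1 h2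
  refine ⟨fun i hi => ?_, fun i => ?_⟩
  · haveI := h1 i hi
    exact Module.length_eq_zero_iff.2 (h1 i hi)
  · obtain ⟨e⟩ := h2 i
    refine (LinearEquiv.length_eq e).trans ?_
    rw [Module.length_finsupp]
    haveI : IsSimpleModule L (L ⧸ IsLocalRing.maximalIdeal L) :=
      isSimpleModule_iff_quot_maximal.2 ⟨IsLocalRing.maximalIdeal L, inferInstance, ⟨LinearEquiv.refl L _⟩⟩
    rw [Module.length_eq_one L (L ⧸ IsLocalRing.maximalIdeal L), mul_one]

omit [P.IsPrime] in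
lemma height_map_self (c : Ideal R) [c.IsPrime] : (c.map (Ideal.Quotient.mk c)).height = ((0 : ℕ) : ℕ∞) := by
  rw [Ideal.map_quotient_self, Ideal.height_bot]
  rfl

omit [P.IsPrime] in
lemma co_isPrime_self (c : Ideal R) [c.IsPrime] (hc : c.IsHomogeneous 𝒜) : (co 𝒜 c).IsPrime := by
  rw [show co 𝒜 c = c from hc.toIdeal_homogeneousCore_eq_self]
  infer_instance

/-- Bass numbers at a homogeneous prime through bases of the graded cohomology. -/
theorem bassNum_homogeneous (c : Ideal R) [c.IsPrime] (hc : c.IsHomogeneous 𝒜) {Λ : ℕ → Type u}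
    {x : ∀ i, Λ i → Tq E c i} (hx : ∀ i, IsCoreBasis 𝒜 c (x i)) (i : ℕ) :
    GrLC.bassNum c M i = ENat.card (Λ i) := by
  haveI := co_isPrime_self (𝒜 := 𝒜) c hc
  have hcc : co 𝒜 c = c := hc.toIdeal_homogeneousCore_eq_self
  have key : ∀ (c' : Ideal R) (_ : c' = c), ∃ x' : ∀ i, Λ i → Tq E c' i, ∀ i, IsCoreBasis 𝒜 c' (x' i) := by
    rintro _ rfl
    exact ⟨x, hx⟩
  obtain ⟨x', hx'⟩ := key _ hcc
  have hh : (c.map (Ideal.Quotient.mk (co 𝒜 c))).height = ((0 : ℕ) : ℕ∞) := by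
    have h0 : c.map (Ideal.Quotient.mk (co 𝒜 c)) = ⊥ := by
      rw [← le_bot_iff, Ideal.map_le_iff_le_comap, ← RingHom.ker_eq_comap_bot, Ideal.mk_ker, hcc]
    rw [h0, Ideal.height_bot]
    rfl
  exact (bassNum_eq E c hx' hh).2 i

theorem exists_bases : ∃ (Λ : ℕ → Type u) (x : ∀ i, Λ i → Tq E (co 𝒜 P) i),
    ∀ i, IsCoreBasis 𝒜 (co 𝒜 P) (x i) := by
  have h : ∀ i, ∃ (Λ : Type u) (x : Λ → Tq E (co 𝒜 P) i), IsCoreBasis 𝒜 (co 𝒜 P) x := fun i =>
    letI := tqDec E (co 𝒜 P) (Ideal.homogeneousCore 𝒜 P).isHomogeneous i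
    exists_coreBasis 𝒜 (tqGr E (co 𝒜 P) i) (tq_kill E (co 𝒜 P) i)
  choose Λ x hx using h
  exact ⟨Λ, x, hx⟩

variable (𝒜) in
/-- `μ^{i+d}(P) = μ^i(P*)`. -/
theorem bassNum_shift (ℳ : ι → AddSubgroup M) [DirectSum.Decomposition ℳ] [SetLike.GradedSMul 𝒜 ℳ] {d : ℕ}
    (hd : (P.map (Ideal.Quotient.mk (co 𝒜 P))).height = d) :
    (∀ i, i < d → GrLC.bassNum P M i = 0) ∧
      ∀ i, GrLC.bassNum P M (i + d) = GrLC.bassNum (co 𝒜 P) M i := by
  obtain ⟨E⟩ := nonempty_starInjRes 𝒜 ℳ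
  obtain ⟨Λ, x, hx⟩ := exists_bases E P
  obtain ⟨h1, h2⟩ := bassNum_eq E P hx hd
  exact ⟨h1, fun i => by
    rw [h2 i, bassNum_homogeneous E (co 𝒜 P) (Ideal.homogeneousCore 𝒜 P).isHomogeneous hx i]⟩

end Groth.Agent.GrCore
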