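import Groth.Agent.GrCore.Twist
import Groth.Agent.SerreReg.MiracleFinite
import Mathlib.RingTheory.Length

/-!
Graded modules killed by a homogeneous prime become free after localization at a prime over that core.
-/

set_option autoImplicit false
set_option backward.isDefEq.respectTransparency false
set_option backward.isDefEq.respectTransparency.types false
set_option linter.unusedSectionVars false
set_option linter.style.haveILetI false
universe u

open scoped Classical
open DirectSum Groth.Agent.GrLCLib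

noncomputable section

namespace Groth.Agent.GrCore

variable {ι : Type} [AddCommGroup ι] [DecidableEq ι]
variable {R : Type u} [CommRing R] (𝒜 : ι → AddSubgroup R) [GradedRing 𝒜]
variable {N : Type u} [AddCommGroup N] [Module R N]

/-- A family that is a basis after inverting homogeneous elements outside `c`. -/
structure IsCoreBasis (c : Ideal R) {Λ : Type u} (x : Λ → N) : Prop where
  indep : ∀ f : Λ →₀ R, Finsupp.linearCombination R x f = 0 → ∀ a, f a ∈ c
  gen : ∀ n : N, ∃ (e : ι) (s : R), s ∈ 𝒜 e ∧ s ∉ c ∧ s • n ∈ Submodule.span R (Set.range x)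

lemma homog_span (𝒩 : ι → AddSubgroup N) [DirectSum.Decomposition 𝒩] [SetLike.GradedSMul 𝒜 𝒩]
    {κ : Type*} (v : κ → N) (hv : ∀ i, ∃ g, v i ∈ 𝒩 g) : Homog 𝒩 (Submodule.span R (Set.range v)) := by
  intro y hy g
  induction hy using Submodule.span_induction generalizing g with
  | zero => simp
  | mem y hy =>
    obtain ⟨i, rfl⟩ := hy
    obtain ⟨h, hh⟩ := hv i
    by_cases he : h = g
    · subst he
      rw [pr_of_mem 𝒩 hh]
      exact Submodule.subset_span ⟨i, rfl⟩
    · rw [pr_of_mem_ne 𝒩 hh he]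
      exact zero_mem _
  | add a b _ _ ha hb =>
    rw [map_add]
    exact add_mem (ha g) (hb g)
  | smul r a _ ha =>
    rw [← sum_pr 𝒜 r, Finset.sum_smul, map_sum]
    refine Submodule.sum_mem _ fun e _ => ?_
    rw [pr_smul 𝒜 𝒩 (pr_mem 𝒜 e r)]
    exact Submodule.smul_mem _ _ (ha _)

theorem exists_coreBasis (𝒩 : ι → AddSubgroup N) [DirectSum.Decomposition 𝒩] [SetLike.GradedSMul 𝒜 𝒩]
    {c : Ideal R} [c.IsPrime] (hN : ∀ r ∈ c, ∀ n : N, r • n = 0) :
    ∃ (Λ : Type u) (x : Λ → N), IsCoreBasis 𝒜 c x := by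
  have hT : Module.IsTorsionBySet R N (c : Set R) := fun n r => hN r r.2 n
  letI : Module (R ⧸ c) N := hT.module
  haveI : IsScalarTower R (R ⧸ c) N := hT.isScalarTower
  let v : {n : N // ∃ g, n ∈ 𝒩 g} → N := Subtype.val
  obtain ⟨S, hS, hmax⟩ := exists_maximal_linearIndepOn (R ⧸ c) v
  let x : S → N := fun a => v a
  refine ⟨S, x, ⟨fun f hf a => ?_, fun n => ?_⟩⟩
  · have h0 : Finsupp.linearCombination (R ⧸ c) x (f.mapRange (Ideal.Quotient.mk c) (map_zero _)) = 0 := by
      rw [← hf, Finsupp.linearCombination_apply, Finsupp.linearCombination_apply]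
      refine (Finsupp.sum_mapRange_index (h := fun (a : S) (b : R ⧸ c) => b • x a) fun a => zero_smul (R ⧸ c) (x a)).trans ?_
      rfl
    have h1 := DFunLike.congr_fun (linearIndependent_iff.1 hS _ h0) a
    rw [Finsupp.mapRange_apply, Finsupp.zero_apply, Ideal.Quotient.eq_zero_iff_mem] at h1
    exact h1
  · have hone : (1 : R) ∉ c := fun h => Ideal.IsPrime.ne_top ‹_› ((Ideal.eq_top_iff_one _).2 h)
    have hrange : v '' S = Set.range x := by ext y; simp [x]
    induction n using DirectSum.Decomposition.inductionOn 𝒩 with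
    | zero => exact ⟨0, 1, SetLike.one_mem_graded 𝒜, hone, by simp⟩
    | @homogeneous g y =>
      by_cases hy : (⟨(y : N), ⟨g, y.2⟩⟩ : {n : N // ∃ g, n ∈ 𝒩 g}) ∈ S
      · refine ⟨0, 1, SetLike.one_mem_graded 𝒜, hone, ?_⟩
        rw [one_smul]
        exact Submodule.subset_span ⟨⟨_, hy⟩, rfl⟩
      · obtain ⟨a, ha, hmem⟩ := hmax _ hy
        obtain ⟨r, rfl⟩ := Ideal.Quotient.mk_surjective a
        have hmem' : r • (y : N) ∈ Submodule.span R (Set.range x) := by
          have h1 : ((Submodule.span (R ⧸ c) (v '' S)).restrictScalars R) ≤ Submodule.span R (Set.range x) := by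
            rw [Submodule.restrictScalars_span R (R ⧸ c) Ideal.Quotient.mk_surjective, hrange]
          exact h1 hmem
        obtain ⟨e, he⟩ : ∃ e, pr 𝒜 e r ∉ c := by
          by_contra h
          push Not at h
          exact ha (Ideal.Quotient.eq_zero_iff_mem.2 (by rw [← sum_pr 𝒜 r]; exact sum_mem fun e _ => h e))
        refine ⟨e, pr 𝒜 e r, pr_mem 𝒜 e r, he, ?_⟩
        have h2 := homog_span 𝒜 𝒩 x (fun a => a.1.2) _ hmem' (e + g)
        have h3 : pr 𝒩 (e + g) (r • (y : N)) = pr 𝒜 e r • (y : N) := by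
          conv_lhs => rw [← sum_pr 𝒜 r, Finset.sum_smul, map_sum]
          rw [Finset.sum_eq_single e]
          · rw [pr_smul 𝒜 𝒩 (pr_mem 𝒜 e r), add_sub_cancel_left, pr_of_mem 𝒩 y.2]
          · intro e' _ hne
            rw [pr_smul 𝒜 𝒩 (pr_mem 𝒜 e' r), pr_of_mem_ne 𝒩 y.2 (fun h => hne (by
              have h5 := congrArg (fun t => t + e') h
              simp only [sub_add_cancel] at h5
              exact add_right_cancel ((add_comm e' g).trans h5))), smul_zero]
          · intro h
            rw [DFinsupp.notMem_support_iff] at h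
            simp [pr, h]
        rwa [← h3]
    | add a b ha hb =>
      obtain ⟨e, s, hs, hsc, hsa⟩ := ha
      obtain ⟨e', s', hs', hsc', hsb⟩ := hb
      refine ⟨e + e', s * s', SetLike.mul_mem_graded hs hs', fun h => (Ideal.IsPrime.mem_or_mem ‹_› h).elim hsc hsc', ?_⟩
      rw [smul_add]
      refine add_mem ?_ ?_
      · rw [mul_comm, mul_smul]
        exact Submodule.smul_mem _ _ hsa
      · rw [mul_smul]
        exact Submodule.smul_mem _ _ hsb

variable (P : Ideal R) [P.IsPrime]

local notation "L" => Localization.AtPrime P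

/-- The extension of the core to the localization. -/
abbrev coLoc : Ideal (Localization.AtPrime P) := (co 𝒜 P).map (algebraMap R (Localization.AtPrime P))

lemma notMem_of_homogeneous {e : ι} {s : R} (hs : s ∈ 𝒜 e) (hsc : s ∉ co 𝒜 P) : s ∈ P.primeCompl :=
  fun h => hsc (mem_co_of_homogeneous 𝒜 P hs h)

theorem loc_free {Λ : Type u} {x : Λ → N} (hx : IsCoreBasis 𝒜 (co 𝒜 P) x) [(co 𝒜 P).IsPrime]
    (hN : ∀ r ∈ co 𝒜 P, ∀ n : N, r • n = 0) :
    Nonempty (LocalizedModule P.primeCompl N ≃ₗ[L] (Λ →₀ L ⧸ coLoc 𝒜 P)) := by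
  let i : N →ₗ[R] LocalizedModule P.primeCompl N := LocalizedModule.mkLinearMap P.primeCompl N
  let g : (Λ →₀ L) →ₗ[L] LocalizedModule P.primeCompl N := Finsupp.linearCombination L fun a => i (x a)
  have hgmap : ∀ f : Λ →₀ R, g (f.mapRange (algebraMap R L) (map_zero _)) = i (Finsupp.linearCombination R x f) := by
    intro f
    rw [Finsupp.linearCombination_apply, Finsupp.linearCombination_apply, map_finsuppSum]
    refine (Finsupp.sum_mapRange_index (h := fun (a : Λ) (b : L) => b • i (x a)) fun a => zero_smul L (i (x a))).trans ?_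
    refine Finsupp.sum_congr fun a _ => ?_
    rw [map_smul, algebraMap_smul]
  have hgs : Function.Surjective g := by
    intro y
    obtain ⟨⟨n, t⟩, hnt⟩ := IsLocalizedModule.surj P.primeCompl i y
    obtain ⟨e, s, hs, hsc, hsn⟩ := hx.gen n
    obtain ⟨f, hf⟩ := Finsupp.mem_span_range_iff_exists_finsupp.1 hsn
    obtain ⟨q, hq⟩ : ∃ q : L, q * algebraMap R L (s * t) = 1 :=
      (IsLocalization.map_units L (⟨s, notMem_of_homogeneous 𝒜 P hs hsc⟩ * t : P.primeCompl)).exists_left_inv
    refine ⟨q • f.mapRange (algebraMap R L) (map_zero _), ?_⟩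
    rw [map_smul, hgmap, Finsupp.linearCombination_apply, hf, map_smul, ← algebraMap_smul L s, smul_smul,
      show i n = (t : R) • y from hnt.symm, ← algebraMap_smul L (t : R), smul_smul]
    refine Eq.trans ?_ (one_smul L y)
    congr 1
    rw [mul_assoc, ← map_mul]
    exact hq
  have hkill : ∀ j ∈ coLoc 𝒜 P, ∀ z : LocalizedModule P.primeCompl N, j • z = 0 := by
    intro j hj z
    obtain ⟨⟨n, t⟩, hnt⟩ := IsLocalizedModule.surj P.primeCompl i z
    have hu := IsLocalization.map_units L t
    refine (hu.smul_left_cancel).1 ?_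
    rw [smul_zero, smul_comm, algebraMap_smul, show (t : R) • z = i n from hnt]
    have hle : coLoc 𝒜 P ≤ (Submodule.span L {i n}).annihilator := Ideal.map_le_iff_le_comap.2 fun r hr => by
      rw [Ideal.mem_comap, Submodule.mem_annihilator_span_singleton, algebraMap_smul, ← map_smul, hN r hr, map_zero]
    exact (Submodule.mem_annihilator_span_singleton (i n) j).1 (hle hj)
  let q : (Λ →₀ L) →ₗ[L] (Λ →₀ L ⧸ coLoc 𝒜 P) := Finsupp.mapRange.linearMap (Submodule.mkQ (coLoc 𝒜 P))
  have hqs : Function.Surjective q := Finsupp.mapRange_surjective _ (map_zero _) (Submodule.mkQ_surjective _)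
  have hker : LinearMap.ker g = LinearMap.ker q := by
    ext f
    rw [LinearMap.mem_ker, LinearMap.mem_ker]
    constructor
    · intro hf
      obtain ⟨⟨b, hb⟩, hb'⟩ := IsLocalization.exist_integer_multiples P.primeCompl f.support (fun a => f a)
      choose! r hr using hb'
      let f' : Λ →₀ R := Finsupp.onFinset f.support (fun a => if a ∈ f.support then r a else 0) (fun a ha => by
        by_contra h
        rw [if_neg h] at ha
        exact ha rfl)
      have hf' : f'.mapRange (algebraMap R L) (map_zero _) = algebraMap R L b • f := by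
        ext a
        by_cases ha : a ∈ f.support
        · simp only [f', Finsupp.mapRange_apply, Finsupp.onFinset_apply, if_pos ha, Finsupp.smul_apply, smul_eq_mul]
          rw [hr a ha]
          exact Algebra.smul_def b (f a)
        · simp only [f', Finsupp.mapRange_apply, Finsupp.onFinset_apply, if_neg ha, Finsupp.smul_apply, smul_eq_mul,
            map_zero, Finsupp.notMem_support_iff.1 ha, mul_zero]
      have h1 := hgmap f'
      rw [hf', map_smul, hf, smul_zero] at h1
      obtain ⟨t, ht⟩ := (IsLocalizedModule.eq_zero_iff P.primeCompl i).1 h1.symm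
      have h2 : Finsupp.linearCombination R x ((t : R) • f') = 0 := by rw [map_smul]; exact ht
      ext a
      show (Submodule.mkQ (coLoc 𝒜 P)) (f a) = 0
      rw [Submodule.mkQ_apply, Submodule.Quotient.mk_eq_zero]
      have h3 : f' a ∈ co 𝒜 P := (Ideal.IsPrime.mem_or_mem ‹_› (hx.indep _ h2 a : (t : R) * f' a ∈ co 𝒜 P)).resolve_left
        fun h => t.2 (co_le 𝒜 P h)
      have h4 : algebraMap R L b * f a ∈ coLoc 𝒜 P := by
        rw [← smul_eq_mul, ← Finsupp.smul_apply, ← hf', Finsupp.mapRange_apply]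
        exact Ideal.mem_map_of_mem _ h3
      exact (Ideal.unit_mul_mem_iff_mem _ (IsLocalization.map_units L (⟨b, hb⟩ : P.primeCompl))).1 h4
    · intro hf
      rw [Finsupp.linearCombination_apply]
      refine Finset.sum_eq_zero fun a _ => hkill _ ?_ _
      have h1 := DFunLike.congr_fun hf a
      exact (Submodule.Quotient.mk_eq_zero _).1 h1
  exact ⟨((LinearMap.quotKerEquivOfSurjective g hgs).symm.trans (Submodule.quotEquivOfEq _ _ hker)).trans
    (LinearMap.quotKerEquivOfSurjective q hqs)⟩

section Regular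

variable [Module.Free ℤ ι] [Module.Finite ℤ ι] [IsNoetherianRing R] [(co 𝒜 P).IsPrime]

/-- A regular system of parameters of the fibre over the core. -/
theorem exists_params {d : ℕ} (hd : (P.map (Ideal.Quotient.mk (co 𝒜 P))).height = d) :
    ∃ fs : List L, fs.length = d ∧ RingTheory.Sequence.IsWeaklyRegular (L ⧸ coLoc 𝒜 P) fs ∧
      coLoc 𝒜 P ⊔ Ideal.ofList fs = IsLocalRing.maximalIdeal L := by
  let R' := R ⧸ co 𝒜 P
  let p := P.map (Ideal.Quotient.mk (co 𝒜 P))
  haveI := quot_regular 𝒜 P
  have hcomap : p.comap (Ideal.Quotient.mk (co 𝒜 P)) = P := by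
    rw [Ideal.comap_map_of_surjective _ Ideal.Quotient.mk_surjective, ← RingHom.ker_eq_comap_bot, Ideal.mk_ker]
    exact sup_eq_left.2 (co_le 𝒜 P)
  have hsub : Algebra.algebraMapSubmonoid R' P.primeCompl = p.primeCompl := by
    ext y
    obtain ⟨r, rfl⟩ := Ideal.Quotient.mk_surjective y
    rw [Ideal.mem_primeCompl_iff, ← Ideal.mem_comap, hcomap]
    refine ⟨?_, fun hr => ⟨r, hr, rfl⟩⟩
    rintro ⟨s, hs, hsr⟩ hr
    exact hs (by simpa using Ideal.add_mem _ hr (co_le 𝒜 P (Ideal.Quotient.eq.1 hsr)))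
  haveI : IsLocalization p.primeCompl (L ⧸ coLoc 𝒜 P) := by
    rw [← hsub]
    infer_instance
  let e : Localization.AtPrime p ≃+* L ⧸ coLoc 𝒜 P :=
    (IsLocalization.algEquiv p.primeCompl (Localization.AtPrime p) (L ⧸ coLoc 𝒜 P)).toRingEquiv
  haveI hreg : IsRegularLocalRing (L ⧸ coLoc 𝒜 P) := IsRegularLocalRing.of_ringEquiv e
  have hdim : ringKrullDim (L ⧸ coLoc 𝒜 P) = d := by
    rw [IsLocalization.AtPrime.ringKrullDim_eq_height p (L ⧸ coLoc 𝒜 P), hd]
    rfl
  obtain ⟨rs, hlen, hw, hspan⟩ := SerreReg.exists_regular_rsop d _ hdim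
  obtain ⟨fs, rfl⟩ := (List.map_surjective_iff.2 (Ideal.Quotient.mk_surjective (I := coLoc 𝒜 P))) rs
  refine ⟨fs, by simpa using hlen, (RingTheory.Sequence.isWeaklyRegular_map_algebraMap_iff _ _ fs).1 hw, ?_⟩
  rw [← Ideal.map_ofList] at hspan
  have h1 := congrArg (Ideal.comap (Ideal.Quotient.mk (coLoc 𝒜 P))) hspan
  rw [Ideal.comap_map_of_surjective _ Ideal.Quotient.mk_surjective, ← RingHom.ker_eq_comap_bot, Ideal.mk_ker,
    sup_comm] at h1
  rw [h1]
  exact IsLocalRing.eq_maximalIdeal (Ideal.comap_isMaximal_of_surjective _ Ideal.Quotient.mk_surjective)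

end Regular

end Groth.Agent.GrCore
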