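import Groth.Agent.GrCore.TopGor
import Groth.Agent.GrGor.Veronese
import Groth.Agent.LocH.Localize
import Groth.Agent.LocH.CompareLE
import Groth.Agent.LocH.Grothendieck

/-!
Gorenstein *local rings: the top graded local cohomology is *injective exactly in that case.
-/

set_option autoImplicit false
set_option backward.isDefEq.respectTransparency false
set_option backward.isDefEq.respectTransparency.types false
set_option linter.unusedSectionVars false
set_option linter.style.haveILetI false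
universe u

open scoped Classical
open DirectSum CategoryTheory CategoryTheory.Abelian Groth.Agent.GrLCLib

noncomputable section

namespace Groth.Agent.GrCore

/-- Vanishing of the localized local cohomology: every class is killed outside the prime. -/
theorem exists_smul_eq_zero {R : Type u} [CommRing R] [IsNoetherianRing R] (S : Submonoid R) (M : Type u)
    [AddCommGroup M] [Module R M] (K : Ideal R) (i : ℕ)
    (h : Subsingleton (LocCoh.H (K.map (algebraMap R (Localization S))) i (LocalizedModule S M)))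
    (α : LocCoh.H K i M) : ∃ s : S, (s : R) • α = 0 := by
  let J := injectiveResolution (ModuleCat.of R M)
  have hv := (LocH.subsingleton_localized_iff S M J _ i).1 h
  obtain ⟨z, rfl⟩ := LocH.cyclesToH_surjective J i α
  obtain ⟨k, hk⟩ := LocH.cycleVal_mem J i z
  obtain ⟨s, hs⟩ := LocH.exists_smul_mem_boundary S J (hv _ (LocH.floc_mem S J ⟨k, hk⟩)
    ((LocH.dloc_floc S J i (i + 1) _).trans ((congrArg _ (LocH.d_cycleVal J i z)).trans (map_zero _))))
  refine ⟨s, ?_⟩
  rw [← map_smul]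
  refine (LocH.cyclesToH_eq_zero_iff_mem J i _).2 ?_
  rw [show LocH.cycleVal J i ((s : R) • z) = (s : R) • LocH.cycleVal J i z from
    (congrArg _ (map_smul _ _ _)).trans (map_smul _ _ _)]
  exact hs

variable {ι : Type} [AddCommGroup ι] [DecidableEq ι] [Module.Free ℤ ι] [Module.Finite ℤ ι]
variable {R : Type u} [CommRing R] [IsNoetherianRing R] {𝒜 : ι → AddSubgroup R} [GradedRing 𝒜]
  {m : HomogeneousIdeal 𝒜}
variable (hm : GrLC.IsStarLocal 𝒜 m) (I : GrLC.StarInjRes 𝒜 𝒜) {n : ℕ} (hn : m.toIdeal.height = n)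

include hm in
/-- A homogeneous element killed by a power of `m` is zero once it is killed outside `m`. -/
lemma eq_zero_of_smul {N : Type u} [AddCommGroup N] [Module R N] (𝒩 : ι → AddSubgroup N)
    [DirectSum.Decomposition 𝒩] [SetLike.GradedSMul 𝒜 𝒩] {g : ι} {x : N} (hx : x ∈ 𝒩 g) {k : ℕ}
    (hk : ∀ r ∈ m.toIdeal ^ k, r • x = 0) {s : R} (hsm : s ∉ m.toIdeal) (hs : s • x = 0) : x = 0 := by
  obtain ⟨d, hd⟩ : ∃ d, pr 𝒜 d s ∉ m.toIdeal := by
    by_contra h
    push Not at h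
    exact hsm (by rw [← sum_pr 𝒜 s]; exact sum_mem fun d _ => h d)
  have h0 : pr 𝒜 d s • x = 0 := by
    have h := pr_smul_left 𝒜 𝒩 hx (d + g) s
    rw [hs, map_zero, add_sub_cancel_right] at h
    exact h.symm
  obtain ⟨t, ht⟩ := exists_inv_mod hm (pr_mem 𝒜 d s) hd
  have hu : (1 - t * pr 𝒜 d s) ^ k • x = 0 := hk _ (Ideal.pow_mem_pow (by
    rw [← neg_sub]; exact neg_mem ht) k)
  have hfix : ∀ j : ℕ, (1 - t * pr 𝒜 d s) ^ j • x = x := by
    intro j
    induction j with
    | zero => rw [pow_zero, one_smul]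
    | succ j ih =>
      rw [pow_succ, mul_smul, sub_smul, one_smul, mul_smul t, h0, smul_zero, sub_zero, ih]
  rwa [hfix k] at hu

include hm hn in
theorem van_of_gt (i : ℕ) (hi : n < i) : ∀ g, Van I m i g := by
  haveI : m.toIdeal.IsPrime := isPrime_starLocal hm
  let S := m.toIdeal.primeCompl
  have hsub : Subsingleton (LocCoh.H (m.toIdeal.map (algebraMap R (Localization S))) i (LocalizedModule S R)) := by
    haveI : IsNoetherianRing (Localization S) := IsLocalization.isNoetherianRing S _ inferInstance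
    refine (LocH.subsingleton_iff_of_iso _ i (LocH.localizedSelf S).toModuleIso).2
      (LocH.subsingleton_of_supportDim_lt _ i _ ?_)
    rw [Module.supportDim_self_eq_ringKrullDim, IsLocalization.AtPrime.ringKrullDim_eq_height m.toIdeal, hn]
    exact_mod_cast hi
  intro g z hz hzc
  obtain ⟨e⟩ := H_equiv_localCohomology I m i
  obtain ⟨s, hs⟩ := exists_smul_eq_zero S R m.toIdeal i hsub (e (I.toH m i ⟨z, hzc⟩))
  rw [← map_smul] at hs
  have hs0 : (s : R) • I.toH m i ⟨z, hzc⟩ = 0 := e.injective (hs.trans (map_zero e).symm)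
  obtain ⟨k, hk⟩ := hzc.1
  letI decH : DirectSum.Decomposition (I.Hgr m i) := (isInternal_Hgr I m i).chooseDecomposition
  haveI gsH : SetLike.GradedSMul 𝒜 (I.Hgr m i) := ⟨fun {a b r x} hr hx => by
    obtain ⟨w, hw, rfl⟩ := hx
    exact ⟨r • w, SetLike.GradedSMul.smul_mem (A := 𝒜) (B := (I.X i).gr) hr hw, map_smul (I.toH m i) r w⟩⟩
  have h0 : I.toH m i ⟨z, hzc⟩ = 0 :=
    eq_zero_of_smul hm (I.Hgr m i) (g := g) ⟨⟨z, hzc⟩, hz, rfl⟩ (k := k) (fun r hr => by
      rw [← map_smul, show r • (⟨z, hzc⟩ : ↥(I.cocyc m i)) = 0 from Subtype.ext (hk r hr), map_zero]) s.2 hs0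
  exact (Submodule.Quotient.mk_eq_zero ((I.cobdy m i).comap (I.cocyc m i).subtype)).1 h0

variable [LocCoh.IsCohenMacaulayRing R]

include hm hn in
theorem subInj_cocyc_top (X : GrLC.GMod.{u} 𝒜) (φ : I.H m n ≃ₗ[R] X.carrier) (hX : GrLC.IsStarInj 𝒜 X.gr)
    (hφ : GrLC.IsGrHom (I.Hgr m n) X.gr φ.toLinearMap) : SubInj (I.X n) (I.cocyc m n) := by
  obtain ⟨hB, -⟩ := subInj_cobdy_cm hm I hn n le_rfl
  obtain ⟨p, hpdeg, hpB⟩ := exists_retraction hB (homog_cocyc I m n) (cobdy_le_cocyc I m n)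
  letI decH : DirectSum.Decomposition (I.Hgr m n) := (isInternal_Hgr I m n).chooseDecomposition
  let q : ↥(I.cocyc m n) →ₗ[R] ↥(I.cocyc m n) :=
    LinearMap.id - Submodule.inclusion (cobdy_le_cocyc I m n) ∘ₗ p
  have hqker : (I.cobdy m n).comap (I.cocyc m n).subtype ≤ LinearMap.ker q := fun z hz => by
    show z - Submodule.inclusion (cobdy_le_cocyc I m n) (p z) = 0
    rw [show p z = ⟨z.1, hz⟩ from hpB ⟨z.1, hz⟩]
    exact sub_self z
  let σ : I.H m n →ₗ[R] ↥(I.cocyc m n) := Submodule.liftQ _ q hqker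
  have hσdeg : ∀ g, ∀ x ∈ I.Hgr m n g, ((σ x : ↥(I.cocyc m n)) : (I.X n).carrier) ∈ (I.X n).gr g := by
    rintro g _ ⟨z, hz, rfl⟩
    exact sub_mem hz (hpdeg g z hz)
  have hφsymm : ∀ g, ∀ x ∈ X.gr g, φ.symm x ∈ I.Hgr m n g := by
    intro g x hx
    have h := pr_map (I.Hgr m n) X.gr hφ g (φ.symm x)
    rw [LinearEquiv.coe_coe, φ.apply_symm_apply, pr_of_mem X.gr hx] at h
    have h2 : pr (I.Hgr m n) g (φ.symm x) = φ.symm x :=
      φ.injective (h.symm.trans (φ.apply_symm_apply x).symm)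
    rw [← h2]
    exact pr_mem _ _ _
  obtain ⟨hBh, hBi⟩ := hB
  refine ⟨homog_cocyc I m n, fun A B f hf hinj g hg => ?_⟩
  obtain ⟨h1, hh1, hh1'⟩ := hBi A B f hf hinj (p ∘ₗ g) (fun i a ha => hpdeg i _ (hg i a ha))
  obtain ⟨h2, hh2, hh2'⟩ := hX A B f hf hinj (φ.toLinearMap ∘ₗ I.toH m n ∘ₗ g)
    (fun i a ha => hφ i _ ⟨g a, hg i a ha, rfl⟩)
  refine ⟨Submodule.inclusion (cobdy_le_cocyc I m n) ∘ₗ h1 + σ ∘ₗ φ.symm.toLinearMap ∘ₗ h2, fun i b hb => ?_,
    LinearMap.ext fun a => ?_⟩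
  · exact add_mem (hh1 i b hb) (hσdeg i _ (hφsymm i _ (hh2 i b hb)))
  · show Submodule.inclusion (cobdy_le_cocyc I m n) (h1 (f a)) + σ (φ.symm (h2 (f a))) = g a
    rw [show h1 (f a) = p (g a) from LinearMap.congr_fun hh1' a,
      show h2 (f a) = φ (I.toH m n (g a)) from LinearMap.congr_fun hh2' a, φ.symm_apply_apply]
    let ga : ↥(I.cocyc m n) := g a
    show Submodule.inclusion (cobdy_le_cocyc I m n) (p ga) +
      (ga - Submodule.inclusion (cobdy_le_cocyc I m n) (p ga)) = ga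
    exact add_sub_cancel _ _

include hm hn in
theorem subsingleton_tq_gt (hZ : SubInj (I.X n) (I.cocyc m n)) (i : ℕ) (hi : n < i) :
    Subsingleton (Tq I m.toIdeal i) := by
  have hv : ∀ j, n < j → I.cocyc m j = I.cobdy m j := fun j hj => le_antisymm (fun z hz =>
    mem_of_pr_mem (I.X j).gr fun g => van_of_gt hm I hn j hj g _ (pr_mem _ g z) (homog_cocyc I m j z hz g))
    (cobdy_le_cocyc I m j)
  have key : ∀ j, n ≤ j → SubInj (I.X j) (I.cocyc m j) ∧ (n < j →
      ∀ z ∈ I.cobdy m j, (∀ r ∈ m.toIdeal, r • z = 0) → z ∈ bc I m.toIdeal j) := by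
    intro j hj
    induction j, hj using Nat.le_induction with
    | base => exact ⟨hZ, fun h => absurd h (lt_irrefl n)⟩
    | succ j hj ih =>
      have hG : SubInj (I.X j) (GrLC.gam m.toIdeal (I.X j).carrier) :=
        ⟨homog_gam 𝒜 m, isStarInj_gamObj 𝒜 m (I.starInj j)⟩
      obtain ⟨h1, h2⟩ := subInj_map (I.d_grHom j) hG (ih.1 : SubInj (I.X j) (I.cocyc m j))
      refine ⟨(hv (j + 1) (Nat.lt_succ_of_le hj)).symm ▸ h1, fun _ z hz hzk => ?_⟩
      obtain ⟨t, -, htz, htk⟩ := h2 z hz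
      exact ⟨t, (Submodule.mem_torsionBySet_iff _ _).2 fun r => htk r (hzk r r.2), htz⟩
  refine subsingleton_of_forall_eq 0 fun w => ?_
  obtain ⟨z, rfl⟩ := Submodule.Quotient.mk_surjective _ w
  obtain ⟨hzd, hzk⟩ := (mem_zc I m.toIdeal).1 z.2
  refine (Submodule.Quotient.mk_eq_zero ((bc I m.toIdeal i).comap (zc I m.toIdeal i).subtype)).2 ?_
  refine (key i hi.le).2 hi _ ((hv i hi) ▸ ⟨⟨1, fun r hr => ?_⟩, hzd⟩) hzk
  exact hzk r (by rwa [pow_one] at hr)

include hm hn in
theorem isGorensteinLocal_of_starInj_top (X : GrLC.GMod.{u} 𝒜) (φ : I.H m n ≃ₗ[R] X.carrier)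
    (hX : GrLC.IsStarInj 𝒜 X.gr) (hφ : GrLC.IsGrHom (I.Hgr m n) X.gr φ.toLinearMap) [m.toIdeal.IsPrime] :
    LocCoh.IsGorensteinLocalRing (Localization.AtPrime m.toIdeal) := by
  have hZ := subInj_cocyc_top hm I hn X φ hX hφ
  have h : ∀ i, ∃ (Λ : Type u) (x : Λ → Tq I m.toIdeal i), IsCoreBasis 𝒜 m.toIdeal x := fun i =>
    letI := tqDec I m.toIdeal m.isHomogeneous i
    exists_coreBasis 𝒜 (tqGr I m.toIdeal i) (tq_kill I m.toIdeal i)
  choose Λ x hx using h
  let A := Localization.AtPrime m.toIdeal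
  haveI : IsNoetherianRing A := IsLocalization.isNoetherianRing m.toIdeal.primeCompl _ inferInstance
  refine (Goren.isGorensteinLocalRing_iff A).2 ⟨n + 1, fun i hi => ?_⟩
  haveI := subsingleton_tq_gt hm I hn hZ i hi
  haveI : IsEmpty (Λ i) := ⟨fun a => ne_top hm ((Ideal.eq_top_iff_one _).2 (by
    have h3 := (hx i).indep (Finsupp.single a 1) (Subsingleton.elim _ _) a
    rwa [Finsupp.single_eq_same] at h3))⟩
  have h0 : GrLC.bassNum m.toIdeal R i = 0 := by
    rw [bassNum_homogeneous I m.toIdeal m.isHomogeneous hx i]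
    exact (ENat.card_eq_zero_iff_empty _).2 inferInstance
  let eM : A ≃ₗ[A] LocalizedModule m.toIdeal.primeCompl R :=
    (IsLocalizedModule.iso m.toIdeal.primeCompl (Algebra.linearMap R A)).symm.extendScalarsOfIsLocalization
      m.toIdeal.primeCompl A
  obtain ⟨e⟩ := ext_congr (Iso.refl (ModuleCat.of A (IsLocalRing.ResidueField A))) eM.toModuleIso i
  exact Module.length_eq_zero_iff.1 (e.length_eq.trans h0)

end Groth.Agent.GrCore
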