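import Groth.Agent.GrCore.Bass
import Groth.Agent.GrCanon.InjDim
import Groth.Agent.GrLCLib.Dim
import Groth.Agent.SerreReg.Regular

/-!
Ungraded injective dimension of graded injective modules.
-/

set_option autoImplicit false
set_option backward.isDefEq.respectTransparency false
set_option backward.isDefEq.respectTransparency.types false
set_option linter.unusedSectionVars false
set_option linter.style.haveILetI false
universe u

open scoped Classical TensorProduct
open DirectSum CategoryTheory CategoryTheory.Abelian Groth.Agent.GrLCLib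

noncomputable section

namespace Groth.Agent.GrCore

section devissage

variable {R : Type u} [CommRing R] [IsNoetherianRing R] (M : Type u) [AddCommGroup M] [Module R M]

theorem ext_prime_loc (q : Ideal R) [q.IsPrime] (i : ℕ) :
    Nonempty (LocalizedModule q.primeCompl (Ext.{u} (ModuleCat.of R (R ⧸ q)) (ModuleCat.of R M) i)
      ≃ₗ[Localization.AtPrime q] Ext.{u} (ModuleCat.of (Localization.AtPrime q)
        (IsLocalRing.ResidueField (Localization.AtPrime q)))
        (ModuleCat.of (Localization.AtPrime q) (LocalizedModule q.primeCompl M)) i) := by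
  let A := Localization.AtPrime q
  obtain ⟨e2⟩ := ExtBC.nonempty_ext_baseChange (A := R) A M i (R ⧸ q)
  let a : (A ⊗[R] (R ⧸ q)) ≃ₗ[A] (A ⧸ IsLocalRing.maximalIdeal A) :=
    (Algebra.TensorProduct.quotIdealMapEquivTensorQuot A q).symm.toLinearEquiv.trans
      (Submodule.quotEquivOfEq _ _ (IsLocalization.AtPrime.map_eq_maximalIdeal q A))
  obtain ⟨e3⟩ := ext_congr a.toModuleIso
    (LocalizedModule.equivTensorProduct q.primeCompl M).symm.toModuleIso i
  exact ⟨((LocalizedModule.equivTensorProduct q.primeCompl _).trans e2).trans e3⟩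

theorem subsingleton_ext_of_bass (i : ℕ) (h : ∀ (q : Ideal R) [q.IsPrime], GrLC.bassNum q M i = 0) :
    ∀ I : Ideal R, Subsingleton (Ext.{u} (ModuleCat.of R (R ⧸ I)) (ModuleCat.of R M) i) := by
  intro I
  induction I using WellFoundedGT.induction with
  | _ I ih =>
    by_cases htop : I = ⊤
    · refine subsingleton_of_forall_eq 0 fun a => ?_
      rw [← one_smul R a]
      haveI : Subsingleton (R ⧸ I) := Ideal.Quotient.subsingleton_iff.2 htop
      exact Goren.smul_ext_eq_zero (fun w => Subsingleton.elim _ _) a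
    by_cases hp : I.IsPrime
    · haveI := hp
      obtain ⟨e⟩ := ext_prime_loc M I i
      haveI := Module.length_eq_zero_iff.1 (h I)
      haveI := e.toEquiv.subsingleton
      refine subsingleton_of_forall_eq 0 fun a => ?_
      obtain ⟨⟨x, hx⟩, hxa⟩ := (IsLocalizedModule.eq_zero_iff I.primeCompl
        (LocalizedModule.mkLinearMap I.primeCompl (Ext.{u} (ModuleCat.of R (R ⧸ I)) (ModuleCat.of R M) i))).1
        (Subsingleton.elim (LocalizedModule.mkLinearMap I.primeCompl _ a) 0)
      have hxI : x ∉ I := hx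
      change x • a = 0 at hxa
      have h0 : (Ext.mk₀ (GrCanon.mulQuotSeq I x).f).comp a (zero_add i) = 0 := by
        show (Ext.mk₀ (x • 𝟙 (ModuleCat.of R (R ⧸ I)))).comp a (zero_add i) = 0
        rw [Ext.mk₀_smul, Ext.smul_comp, Ext.mk₀_id_comp, hxa]
      obtain ⟨c, rfl⟩ := Ext.contravariant_sequence_exact₂ (GrCanon.mulQuotSeq_shortExact hxI) (ModuleCat.of R M) a h0
      haveI := ih _ (lt_of_le_of_ne le_sup_left fun he =>
        hxI (he ▸ Ideal.mem_sup_right (Ideal.mem_span_singleton_self x)))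
      rw [Subsingleton.elim c 0, Ext.comp_zero]
    · exact GrCanon.devissage_step htop hp (ModuleCat.of R M) fun J hJ => ih J hJ

theorem bass_eq_zero_of_subsingleton (q : Ideal R) [q.IsPrime] (i : ℕ)
    (h : Subsingleton (Ext.{u} (ModuleCat.of R (R ⧸ q)) (ModuleCat.of R M) i)) : GrLC.bassNum q M i = 0 := by
  obtain ⟨e⟩ := ext_prime_loc M q i
  haveI : Subsingleton (LocalizedModule q.primeCompl (Ext.{u} (ModuleCat.of R (R ⧸ q)) (ModuleCat.of R M) i)) :=
    subsingleton_of_forall_eq 0 fun z => by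
      induction z using LocalizedModule.induction_on with
      | _ a s => rw [Subsingleton.elim a 0, LocalizedModule.zero_mk]
  exact Module.length_eq_zero_iff.2 e.symm.toEquiv.subsingleton

end devissage

variable {R : Type u} [CommRing R] [IsNoetherianRing R] {𝒜 : ℤ → AddSubgroup R} [GradedRing 𝒜]
variable {M : Type u} [AddCommGroup M] [Module R M] {ℳ : ℤ → AddSubgroup M} [DirectSum.Decomposition ℳ]
  [SetLike.GradedSMul 𝒜 ℳ]

theorem bass_starInj (hM : GrLC.IsStarInj 𝒜 ℳ) (c : Ideal R) [c.IsPrime] (hc : c.IsHomogeneous 𝒜) (i : ℕ) :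
    GrLC.bassNum c M (i + 1) = 0 :=
  bass_eq_zero_of_subsingleton M c (i + 1) (subsingleton_ext_quot c hc (GrLC.GMod.of 𝒜 M ℳ) hM i)

omit [IsNoetherianRing R] in
lemma co_isPrime (p : Ideal R) [p.IsPrime] : (co 𝒜 p).IsPrime := core_isPrime 𝒜 ‹p.IsPrime›

lemma height_eq_one (p : Ideal R) [p.IsPrime] (hp : ¬ p.IsHomogeneous 𝒜) :
    (p.map (Ideal.Quotient.mk (co 𝒜 p))).height = ((1 : ℕ) : ℕ∞) := by
  haveI := co_isPrime (𝒜 := 𝒜) p
  refine le_antisymm (height_map_core_le_one 𝒜 (co_le 𝒜 p) fun n a ha haP => mem_co_of_homogeneous 𝒜 p ha haP) ?_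
  rw [Nat.cast_one, Order.one_le_iff_pos, pos_iff_ne_zero]
  intro h0
  have hprime : (p.map (Ideal.Quotient.mk (co 𝒜 p))).IsPrime :=
    Ideal.map_isPrime_of_surjective Ideal.Quotient.mk_surjective (by rw [Ideal.mk_ker]; exact co_le 𝒜 p)
  have hbot : p.map (Ideal.Quotient.mk (co 𝒜 p)) = ⊥ := Ideal.height_eq_zero_iff_eq_bot.1 h0
  rw [← le_bot_iff, Ideal.map_le_iff_le_comap, ← RingHom.ker_eq_comap_bot, Ideal.mk_ker] at hbot
  apply hp
  rw [le_antisymm hbot (co_le 𝒜 p)]
  exact (Ideal.homogeneousCore 𝒜 p).isHomogeneous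

theorem hasInjDimLT_two (hM : GrLC.IsStarInj 𝒜 ℳ) : HasInjectiveDimensionLT (ModuleCat.of R M) 2 := by
  refine SerreReg.hasInjectiveDimensionLE_of_cyclic 1 _ (subsingleton_ext_of_bass M 2 fun q _ => ?_)
  by_cases hq : q.IsHomogeneous 𝒜
  · exact bass_starInj hM q hq 1
  · haveI := co_isPrime (𝒜 := 𝒜) q
    rw [show (2 : ℕ) = 1 + 1 from rfl, (bassNum_shift 𝒜 q ℳ (height_eq_one q hq)).2 1]
    exact bass_starInj hM (co 𝒜 q) (Ideal.homogeneousCore 𝒜 q).isHomogeneous 0

theorem bass_zero_iff (c : Ideal R) [c.IsPrime] (hc : c.IsHomogeneous 𝒜) (ℳ : ℤ → AddSubgroup M)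
    [DirectSum.Decomposition ℳ] [SetLike.GradedSMul 𝒜 ℳ] :
    GrLC.bassNum c M 0 ≠ 0 ↔ c ∈ associatedPrimes R M := by
  obtain ⟨E⟩ := nonempty_starInjRes 𝒜 ℳ
  haveI := co_isPrime_self (𝒜 := 𝒜) c hc
  have h : ∀ i, ∃ (Λ : Type u) (x : Λ → Tq E c i), IsCoreBasis 𝒜 c x := fun i =>
    letI := tqDec E c hc i
    exists_coreBasis 𝒜 (tqGr E c i) (tq_kill E c i)
  choose Λ x hx using h
  rw [bassNum_homogeneous E c hc hx 0]
  obtain ⟨e⟩ := ext_equiv E c hc 0
  let e' : Tq E c 0 ≃ₗ[R] ((R ⧸ c) →ₗ[R] M) := e.trans (Ext.linearEquiv₀.trans ModuleCat.homLinearEquiv)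
  rw [AssociatedPrimes.mem_iff, isAssociatedPrime_iff]
  constructor
  · intro hne
    obtain ⟨a⟩ : Nonempty (Λ 0) := by
      by_contra he
      haveI := not_nonempty_iff.1 he
      exact hne (ENat.card_eq_zero_iff_empty _ |>.2 inferInstance)
    let f := e' (x 0 a)
    refine ⟨inferInstance, f (Submodule.Quotient.mk 1), ?_⟩
    ext r
    rw [Submodule.mem_colon_singleton, Submodule.mem_bot]
    refine ⟨fun hr => kill_one c f hr, fun hr => ?_⟩
    have h1 : r • f = 0 := Submodule.linearMap_qext _ (LinearMap.ext_ring hr)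
    have h2 : r • x 0 a = 0 := e'.injective (by rw [map_smul, map_zero]; exact h1)
    have h3 := (hx 0).indep (Finsupp.single a r) (by rw [Finsupp.linearCombination_single]; exact h2) a
    rwa [Finsupp.single_eq_same] at h3
  · rintro ⟨-, m, hm⟩ h0
    haveI : IsEmpty (Λ 0) := (ENat.card_eq_zero_iff_empty _).1 h0
    have hmc : ∀ r ∈ c, r • m = 0 := fun r hr => by
      rw [hm, Submodule.mem_colon_singleton, Submodule.mem_bot] at hr
      exact hr
    obtain ⟨g, s, -, hsc, hs⟩ := (hx 0).gen (e'.symm (homOf c m hmc))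
    rw [Set.range_eq_empty, Submodule.span_empty, Submodule.mem_bot, ← map_smul,
      LinearEquiv.map_eq_zero_iff] at hs
    have h1 := congrArg (fun φ : (R ⧸ c) →ₗ[R] M => φ (Submodule.Quotient.mk 1)) hs
    simp only [LinearMap.smul_apply, LinearMap.zero_apply, homOf_one] at h1
    exact hsc (by rw [hm, Submodule.mem_colon_singleton, Submodule.mem_bot]; exact h1)

theorem not_injective_iff (hM : GrLC.IsStarInj 𝒜 ℳ) : ¬ Module.Injective R M ↔
    ∃ p : Ideal R, p.IsPrime ∧ ¬ Ideal.IsHomogeneous 𝒜 p ∧ co 𝒜 p ∈ associatedPrimes R M := by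
  constructor
  · intro hni
    by_contra hne
    apply hni
    have hall : ∀ (q : Ideal R) [q.IsPrime], GrLC.bassNum q M 1 = 0 := fun q _ => by
      by_cases hq : q.IsHomogeneous 𝒜
      · exact bass_starInj hM q hq 0
      · haveI := co_isPrime (𝒜 := 𝒜) q
        rw [show (1 : ℕ) = 0 + 1 from rfl, (bassNum_shift 𝒜 q ℳ (height_eq_one q hq)).2 0]
        by_contra h0
        exact hne ⟨q, inferInstance, hq, (bass_zero_iff (co 𝒜 q) (Ideal.homogeneousCore 𝒜 q).isHomogeneous ℳ).1 h0⟩
    haveI : Injective (ModuleCat.of R M) :=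
      injective_iff_hasInjectiveDimensionLT_one.2
        (SerreReg.hasInjectiveDimensionLE_of_cyclic 0 _ (subsingleton_ext_of_bass M 1 hall))
    exact Module.injective_module_of_injective_object R M
  · rintro ⟨p, hp, hph, hass⟩ hinj
    haveI := co_isPrime (𝒜 := 𝒜) p
    refine (bass_zero_iff (co 𝒜 p) (Ideal.homogeneousCore 𝒜 p).isHomogeneous ℳ).2 hass ?_
    haveI := Module.injective_object_of_injective_module R M
    rw [← (bassNum_shift 𝒜 p ℳ (height_eq_one p hph)).2 0]
    exact bass_eq_zero_of_subsingleton M p 1 (subsingleton_of_forall_eq 0 fun z => Ext.eq_zero_of_injective z)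

end Groth.Agent.GrCore
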