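import Groth.Agent.GeomProp.RegLocal
import Mathlib

/-!
Group algebras of free abelian groups of finite rank: noetherian, regular, localization in the coefficients.
-/

set_option autoImplicit false
set_option linter.unusedSectionVars false
set_option linter.style.haveILetI false
universe u

open scoped LaurentPolynomial AlgebraMonoidAlgebra

noncomputable section

namespace Groth.Agent.GrCore

theorem regular_laurent (R : Type u) [CommRing R] (h : IsRegularRing R) : IsRegularRing R[T;T⁻¹] :=
  haveI := h
  GeomProp.isRegularRing_of_isLocalization (Submonoid.powers (Polynomial.X : Polynomial R)) inferInstance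

theorem regular_fin : ∀ (r : ℕ) (R : Type u) [CommRing R], IsRegularRing R →
    IsRegularRing (AddMonoidAlgebra R (Fin r → ℤ))
  | 0, R, _, h => IsRegularRing.of_ringEquiv (AddMonoidAlgebra.uniqueRingEquiv (Fin 0 → ℤ)).symm
  | r + 1, R, _, h => by
    haveI := h
    haveI h1 := regular_fin r R h
    haveI h2 := regular_laurent (AddMonoidAlgebra R (Fin r → ℤ)) h1
    let e : ℤ × (Fin r → ℤ) ≃+ (Fin (r + 1) → ℤ) :=
      { Fin.consEquiv (fun _ => ℤ) with
        map_add' := fun a b => by
          funext j
          refine Fin.cases ?_ (fun k => ?_) j <;> simp [Fin.consEquiv] }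
    exact IsRegularRing.of_ringEquiv
      ((AddMonoidAlgebra.curryRingEquiv (R := R) (M := ℤ) (N := Fin r → ℤ)).symm.trans
        (AddMonoidAlgebra.mapDomainRingEquiv R e))

variable {ι : Type} [AddCommGroup ι] [Module.Free ℤ ι] [Module.Finite ℤ ι]

theorem regular_group (R : Type u) [CommRing R] (h : IsRegularRing R) : IsRegularRing (AddMonoidAlgebra R ι) := by
  haveI := regular_fin (Module.finrank ℤ ι) R h
  exact IsRegularRing.of_ringEquiv
    (AddMonoidAlgebra.mapDomainRingEquiv R (Module.finBasis ℤ ι).equivFun.toAddEquiv.symm)

theorem noeth_group (R : Type u) [CommRing R] [IsNoetherianRing R] : IsNoetherianRing (AddMonoidAlgebra R ι) := by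
  haveI : AddMonoid.FG ι := AddGroup.fg_iff_addMonoid_fg.1 (Module.Finite.iff_addGroup_fg.1 inferInstance)
  exact Algebra.FiniteType.isNoetherianRing R _

theorem isDomain_group (R : Type u) [CommRing R] [IsDomain R] : IsDomain (AddMonoidAlgebra R ι) := by
  haveI : TwoUniqueSums ι :=
    TwoUniqueSums.of_injective_addHom 
      (Module.Free.chooseBasis ℤ ι).repr.toAddEquiv.toAddHom (Module.Free.chooseBasis ℤ ι).repr.injective inferInstance
  exact NoZeroDivisors.to_isDomain _

theorem flat_group (R : Type u) [CommRing R] : Module.Flat R (AddMonoidAlgebra R ι) := by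
  haveI : Module.Free R (AddMonoidAlgebra R ι) :=
    Module.Free.of_equiv (AddMonoidAlgebra.coeffLinearEquiv R (M := ι) (S := R)).symm
  infer_instance

theorem isLocalization_group {R : Type u} [CommRing R] (S : Submonoid R) (A : Type u) [CommRing A] [Algebra R A]
    [IsLocalization S A] :
    IsLocalization (Algebra.algebraMapSubmonoid (AddMonoidAlgebra R ι) S) (AddMonoidAlgebra A ι) := by
  haveI : Algebra.IsPushout R (AddMonoidAlgebra R ι) A (AddMonoidAlgebra A ι) := inferInstance
  haveI : Algebra.IsPushout R A (AddMonoidAlgebra R ι) (AddMonoidAlgebra A ι) := .symm inferInstance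
  exact isLocalizedModule_iff_isLocalization.mp
    ((isLocalizedModule_iff_isBaseChange S A _).mpr (Algebra.IsPushout.out))

end Groth.Agent.GrCore
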