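import Groth.Agent.GrCore.Bass
import Groth.Agent.GrLCHull.Basic

/-!
Counting indecomposable summands of minimal graded injective resolutions.
-/

set_option autoImplicit false
set_option backward.isDefEq.respectTransparency false
set_option backward.isDefEq.respectTransparency.types false
set_option linter.unusedSectionVars false
set_option linter.style.haveILetI false
universe u

open scoped Classical
open DirectSum CategoryTheory CategoryTheory.Abelian Groth.Agent.GrLCLib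

noncomputable section

namespace Groth.Agent.GrCore

variable {ι : Type} [AddCommGroup ι] [DecidableEq ι]
variable {R : Type u} [CommRing R] {𝒜 : ι → AddSubgroup R} [GradedRing 𝒜]

section multiplier

variable {X : Type u} [AddCommGroup X] [Module R X] (𝒳 : ι → AddSubgroup X) [DirectSum.Decomposition 𝒳]
  [SetLike.GradedSMul 𝒜 𝒳] {c : Ideal R} [c.IsPrime]

lemma one_notMem : (1 : R) ∉ c := fun h => Ideal.IsPrime.ne_top ‹_› ((Ideal.eq_top_iff_one _).2 h)

variable (𝒜) in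
/-- Elements sent into `T` by a homogeneous element outside `c`. -/
def Into (c : Ideal R) (T : Submodule R X) (x : X) : Prop := ∃ (e : ι) (s : R), s ∈ 𝒜 e ∧ s ∉ c ∧ s • x ∈ T

lemma Into.of_mem {T : Submodule R X} {x : X} (h : x ∈ T) : Into 𝒜 c T x :=
  ⟨0, 1, SetLike.one_mem_graded 𝒜, one_notMem, by rwa [one_smul]⟩

lemma Into.zero {T : Submodule R X} : Into 𝒜 c T (0 : X) := Into.of_mem (zero_mem T)

lemma Into.add {T : Submodule R X} {a b : X} (ha : Into 𝒜 c T a) (hb : Into 𝒜 c T b) : Into 𝒜 c T (a + b) := by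
  obtain ⟨e, s, hs, hsc, hsa⟩ := ha
  obtain ⟨e', s', hs', hsc', hsb⟩ := hb
  refine ⟨e + e', s * s', SetLike.mul_mem_graded hs hs', fun h => (Ideal.IsPrime.mem_or_mem ‹_› h).elim hsc hsc', ?_⟩
  rw [smul_add]
  refine add_mem ?_ ?_
  · rw [mul_comm, mul_smul]
    exact Submodule.smul_mem _ _ hsa
  · rw [mul_smul]
    exact Submodule.smul_mem _ _ hsb

lemma Into.smul {T : Submodule R X} {a : X} (r : R) (ha : Into 𝒜 c T a) : Into 𝒜 c T (r • a) := by
  obtain ⟨e, s, hs, hsc, hsa⟩ := ha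
  exact ⟨e, s, hs, hsc, by rw [smul_comm]; exact Submodule.smul_mem _ _ hsa⟩

lemma Into.sum {κ : Type*} (t : Finset κ) {T : Submodule R X} {f : κ → X} (h : ∀ k ∈ t, Into 𝒜 c T (f k)) :
    Into 𝒜 c T (∑ k ∈ t, f k) := Finset.sum_induction f (Into 𝒜 c T) (fun _ _ => Into.add) Into.zero h

lemma Into.trans {T : Submodule R X} {e : ι} {s : R} (hs : s ∈ 𝒜 e) (hsc : s ∉ c) {a : X}
    (ha : Into 𝒜 c T (s • a)) : Into 𝒜 c T a := by
  obtain ⟨e', s', hs', hsc', h⟩ := ha
  exact ⟨e' + e, s' * s, SetLike.mul_mem_graded hs' hs, fun h => (Ideal.IsPrime.mem_or_mem ‹_› h).elim hsc' hsc,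
    by rwa [mul_smul]⟩

lemma Into.of_span {T : Submodule R X} {S : Set X} (hS : ∀ x ∈ S, Into 𝒜 c T x) {y : X}
    (hy : y ∈ Submodule.span R S) : Into 𝒜 c T y := by
  induction hy using Submodule.span_induction with
  | zero => exact Into.zero
  | mem y hy => exact hS y hy
  | add a b _ _ ha hb => exact ha.add hb
  | smul r a _ ha => exact ha.smul r

/-- A family spans up to homogeneous denominators the part killed by `c`. -/
theorem into_span (hc : c.IsHomogeneous 𝒜) {Λ : Type u} {P : Λ → HomogeneousIdeal 𝒜} (hPp : ∀ a, (P a).toIdeal.IsPrime)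
    {J : Λ → Submodule R X} (hJ : ∀ a, (J a).IsHomogeneous 𝒳) (hind : iSupIndep J) (htop : iSup J = ⊤)
    (f : ∀ a, (R ⧸ (P a).toIdeal) →ₗ[R] X)
    (hf : ∀ a, Function.Injective (f a) ∧ LinearMap.range (f a) ≤ J a ∧
      ∀ Q : Submodule R X, Q.IsHomogeneous 𝒳 → Q ≤ J a → Q ≠ ⊥ → Q ⊓ LinearMap.range (f a) ≠ ⊥)
    (hfhom : ∀ a, Homog 𝒳 (LinearMap.range (f a)))
    {x : X} (hx : ∀ r ∈ c, r • x = 0) :
    Into 𝒜 c (Submodule.span R (Set.range fun a : {a : Λ // (P a).toIdeal = c} => f a.1 (Submodule.Quotient.mk 1))) x := by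
  obtain ⟨g, hg, rfl⟩ := (Submodule.mem_iSup_iff_exists_finsupp J x).1 (htop ▸ Submodule.mem_top)
  have hkill : ∀ a, ∀ r ∈ c, r • g a = 0 := by
    intro a r hr
    by_cases ha : a ∈ g.support
    · exact (iSupIndep_iff_finsetSum_eq_zero_imp_eq_zero J).1 hind g.support (fun a => r • g a)
        (fun a _ => (J a).smul_mem r (hg a)) (by rw [← Finset.smul_sum]; exact hx r hr) a ha
    · rw [Finsupp.notMem_support_iff.1 ha, smul_zero]
  refine Into.sum _ fun a _ => ?_
  rw [← sum_pr 𝒳 (g a)]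
  refine Into.sum _ fun h _ => ?_
  set y := pr 𝒳 h (g a)
  have hyJ : y ∈ J a := ((GrLCHull.homog_iff 𝒳).1 (hJ a)) _ (hg a) h
  have hyk : ∀ r ∈ c, r • y = 0 := by
    intro r hr
    rw [← DirectSum.sum_support_decompose 𝒜 r, Finset.sum_smul]
    refine Finset.sum_eq_zero fun e _ => ?_
    have h1 := pr_smul 𝒜 𝒳 (DirectSum.decompose 𝒜 r e).2 (e + h) (g a)
    rw [add_sub_cancel_left, hkill a _ (hc e hr), map_zero] at h1
    exact h1.symm
  by_cases hy0 : y = 0
  · rw [hy0]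
    exact Into.zero
  obtain ⟨_, hne, hne0⟩ := Submodule.exists_mem_ne_zero_of_ne_bot ((hf a).2.2 (Submodule.span R {y})
    ((GrLCHull.homog_iff 𝒳).2 (GrLCHull.homog_span_singleton 𝒜 𝒳 (pr_mem 𝒳 h (g a))))
    ((Submodule.span_singleton_le_iff_mem _ _).2 hyJ) (by simpa using hy0))
  obtain ⟨r₀, rfl⟩ := Submodule.mem_span_singleton.1 hne.1
  obtain ⟨e, s, hs, ⟨b, hb⟩, hs0⟩ := GrLCHull.exists_homog_smul 𝒜 𝒳 (hfhom a) (pr_mem 𝒳 h (g a)) hne.2 hne0
  have hsc : s ∉ c := fun h' => hs0 (hyk s h')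
  refine Into.trans hs hsc ?_
  obtain ⟨β, rfl⟩ := Submodule.Quotient.mk_surjective _ b
  have hβ : β ∉ (P a).toIdeal := fun h' => hs0 (by
    rw [← hb, (Submodule.Quotient.mk_eq_zero _).2 h', map_zero])
  have hfb : f a (Submodule.Quotient.mk β) = β • f a (Submodule.Quotient.mk 1) := by
    rw [← map_smul, ← Submodule.Quotient.mk_smul, smul_eq_mul, mul_one]
  by_cases hP : (P a).toIdeal ≤ c
  · have hPc : (P a).toIdeal = c := le_antisymm hP fun r hr => by
      refine ((hPp a).mem_or_mem (x := r) (y := β) ((Submodule.Quotient.mk_eq_zero _).1 ((hf a).1 ?_))).resolve_right hβ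
      rw [map_zero, show r * β = r • β from rfl, Submodule.Quotient.mk_smul, map_smul, hb, smul_comm, hyk r hr,
        smul_zero]
    rw [← hb, hfb]
    exact Into.of_mem (Submodule.smul_mem _ _ (Submodule.subset_span ⟨⟨a, hPc⟩, rfl⟩))
  · obtain ⟨r, hr, hrc⟩ := SetLike.not_le_iff_exists.1 hP
    obtain ⟨e', he'⟩ : ∃ e', pr 𝒜 e' r ∉ c := by
      by_contra h'
      push Not at h'
      exact hrc (by rw [← sum_pr 𝒜 r]; exact sum_mem fun e' _ => h' e')
    refine ⟨e', pr 𝒜 e' r, pr_mem 𝒜 e' r, he', ?_⟩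
    rw [← hb, ← map_smul, ← Submodule.Quotient.mk_smul, smul_eq_mul,
      (Submodule.Quotient.mk_eq_zero _).2 (show pr 𝒜 e' r * β ∈ (P a).toIdeal from
        Ideal.mul_mem_right β _ ((P a).isHomogeneous e' hr)), map_zero]
    exact zero_mem _

end multiplier

section count

variable {N N' : Type u} [AddCommGroup N] [Module R N] [AddCommGroup N'] [Module R N']

lemma IsCoreBasis.map {c : Ideal R} {Λ : Type u} {x : Λ → N} (hx : IsCoreBasis 𝒜 c x) (e : N ≃ₗ[R] N') :
    IsCoreBasis 𝒜 c (fun a => e (x a)) where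
  indep f hf := hx.indep f (e.injective (by
    rw [map_zero, ← hf, Finsupp.linearCombination_apply, Finsupp.linearCombination_apply, map_finsuppSum]
    exact Finsupp.sum_congr fun a _ => map_smul e _ _))
  gen n := by
    obtain ⟨g, s, hs, hsc, hn⟩ := hx.gen (e.symm n)
    refine ⟨g, s, hs, hsc, ?_⟩
    have h1 := Submodule.apply_mem_span_image_of_mem_span e.toLinearMap hn
    rw [← Set.range_comp, LinearEquiv.coe_coe, map_smul, e.apply_symm_apply] at h1
    exact h1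

theorem card_eq_of_bases [Module.Free ℤ ι] [Module.Finite ℤ ι] [IsNoetherianRing R] {c : Ideal R} [c.IsPrime] (hc : c.IsHomogeneous 𝒜)
    (hN : ∀ r ∈ c, ∀ n : N, r • n = 0) {Λ Λ' : Type u} {x : Λ → N} {x' : Λ' → N}
    (hx : IsCoreBasis 𝒜 c x) (hx' : IsCoreBasis 𝒜 c x') : ENat.card Λ = ENat.card Λ' := by
  haveI := co_isPrime_self (𝒜 := 𝒜) c hc
  have hcc : co 𝒜 c = c := hc.toIdeal_homogeneousCore_eq_self
  have hJ : coLoc 𝒜 c = IsLocalRing.maximalIdeal (Localization.AtPrime c) := by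
    rw [coLoc, hcc]
    exact IsLocalization.AtPrime.map_eq_maximalIdeal c _
  have key : ∀ {Λ : Type u} {x : Λ → N}, IsCoreBasis 𝒜 c x →
      Module.length (Localization.AtPrime c) (LocalizedModule c.primeCompl N) = ENat.card Λ := by
    intro Λ x hx
    obtain ⟨e⟩ := loc_free 𝒜 c (x := x) ⟨fun f hf a => by rw [hcc]; exact hx.indep f hf a,
      fun n => by rw [hcc]; exact hx.gen n⟩ (by rw [hcc]; exact hN)
    rw [hJ] at e
    haveI : IsSimpleModule (Localization.AtPrime c) (Localization.AtPrime c ⧸ IsLocalRing.maximalIdeal _) :=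
      isSimpleModule_iff_quot_maximal.2
        ⟨IsLocalRing.maximalIdeal _, inferInstance, ⟨LinearEquiv.refl (Localization.AtPrime c) _⟩⟩
    rw [LinearEquiv.length_eq e, Module.length_finsupp,
      Module.length_eq_one (Localization.AtPrime c) (Localization.AtPrime c ⧸ IsLocalRing.maximalIdeal _), mul_one]
  rw [← key hx, ← key hx']

variable {X : Type u} [AddCommGroup X] [Module R X] (𝒳 : ι → AddSubgroup X) [DirectSum.Decomposition 𝒳]
  [SetLike.GradedSMul 𝒜 𝒳]

theorem exists_basis_quot {c : Ideal R} [c.IsPrime] (hc : c.IsHomogeneous 𝒜) {Λ : Type u}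
    {P : Λ → HomogeneousIdeal 𝒜} (hPp : ∀ a, (P a).toIdeal.IsPrime)
    {J : Λ → Submodule R X} (hJ : ∀ a, (J a).IsHomogeneous 𝒳) (hind : iSupIndep J) (htop : iSup J = ⊤)
    {g : Λ → ι} (f : ∀ a, (R ⧸ (P a).toIdeal) →ₗ[R] X)
    (hf : ∀ a, Function.Injective (f a) ∧ GrLC.IsGrHomDeg (GrLC.quotGr 𝒜 (P a)) 𝒳 (f a) (g a) ∧
      LinearMap.range (f a) ≤ J a ∧
      ∀ Q : Submodule R X, Q.IsHomogeneous 𝒳 → Q ≤ J a → Q ≠ ⊥ → Q ⊓ LinearMap.range (f a) ≠ ⊥)
    (K B : Submodule R X) (hKc : ∀ x ∈ K, ∀ r ∈ c, r • x = 0)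
    (hB : ∀ z ∈ B, ∃ s, s ∉ c ∧ s • z = 0)
    (hK : ∀ h, ∀ x ∈ 𝒳 h, (∀ r ∈ c, r • x = 0) → Into 𝒜 c K x) :
    ∃ x : {a : Λ // (P a).toIdeal = c} → ↥K ⧸ B.comap K.subtype, IsCoreBasis 𝒜 c x := by
  let F : {a : Λ // (P a).toIdeal = c} → X := fun a => f a.1 (Submodule.Quotient.mk 1)
  have hFc : ∀ a, ∀ r ∈ c, r • F a = 0 := fun a r hr => by
    rw [← map_smul, ← Submodule.Quotient.mk_smul,
      (Submodule.Quotient.mk_eq_zero _).2 (by rw [a.2]; simpa using hr), map_zero]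
  have hFdeg : ∀ a, F a ∈ 𝒳 (0 + g a.1) := fun a =>
    (hf a.1).2.1 0 _ ⟨1, SetLike.one_mem_graded 𝒜, rfl⟩
  choose e s hs hsc hsK using fun a => hK _ (F a) (hFdeg a) (hFc a)
  let z : {a : Λ // (P a).toIdeal = c} → ↥K := fun a => ⟨s a • F a, hsK a⟩
  refine ⟨fun a => Submodule.Quotient.mk (z a), ⟨fun φ hφ a => ?_, fun n => ?_⟩⟩
  · have h0 : Submodule.Quotient.mk (Finsupp.linearCombination R z φ) = (0 : ↥K ⧸ B.comap K.subtype) := by
      rw [← hφ, Finsupp.linearCombination_apply, Finsupp.linearCombination_apply, ← Submodule.mkQ_apply,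
        map_finsuppSum]
      exact Finsupp.sum_congr fun a _ => map_smul _ _ _
    obtain ⟨t, htc, ht⟩ := hB _ ((Submodule.Quotient.mk_eq_zero (B.comap K.subtype)).1 h0)
    by_cases ha : a ∈ φ.support
    · have hsum : ∑ b ∈ φ.support, (t * φ b * s b) • F b = 0 := by
        have e0 : K.subtype (Finsupp.linearCombination R z φ) = ∑ b ∈ φ.support, φ b • (s b • F b) := by
          rw [Finsupp.linearCombination_apply, Finsupp.sum, map_sum]
          rfl
        rw [e0, Finset.smul_sum] at ht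
        rw [← ht]
        exact Finset.sum_congr rfl fun b _ => by rw [mul_smul, mul_smul]
      have hsum' : ∑ b ∈ φ.support.map (Function.Embedding.subtype _),
          (if h : (P b).toIdeal = c then (t * φ ⟨b, h⟩ * s ⟨b, h⟩) • F ⟨b, h⟩ else 0) = 0 := by
        rw [Finset.sum_map]
        refine Eq.trans (Finset.sum_congr rfl fun b _ => ?_) hsum
        exact dif_pos b.2
      have h1 := (iSupIndep_iff_finsetSum_eq_zero_imp_eq_zero J).1 hind _ _ (fun b _ => by
        by_cases h : (P b).toIdeal = c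
        · rw [dif_pos h]
          exact (J b).smul_mem _ ((hf b).2.2.1 (LinearMap.mem_range_self _ _))
        · rw [dif_neg h]
          exact zero_mem _) hsum' a.1 (Finset.mem_map_of_mem (Function.Embedding.subtype _) ha)
      rw [dif_pos a.2] at h1
      change (t * φ a * s a) • f a.1 (Submodule.Quotient.mk 1) = 0 at h1
      rw [← map_smul, ← Submodule.Quotient.mk_smul, ← map_zero (f a.1), smul_eq_mul, mul_one] at h1
      have h2 : t * φ a * s a ∈ c := by
        have h3 := (Submodule.Quotient.mk_eq_zero _).1 ((hf a.1).1 h1)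
        exact a.2.le h3
      exact ((Ideal.IsPrime.mem_or_mem ‹_› ((Ideal.IsPrime.mem_or_mem ‹_› h2).resolve_right (hsc a))).resolve_left htc)
    · rw [Finsupp.notMem_support_iff.1 ha]
      exact zero_mem _
  · obtain ⟨k, rfl⟩ := Submodule.Quotient.mk_surjective _ n
    have h1 := into_span 𝒳 hc hPp hJ hind htop f (fun a => ⟨(hf a).1, (hf a).2.2.1, (hf a).2.2.2⟩) (fun a => by
      rintro _ ⟨y, rfl⟩ h
      obtain ⟨r, rfl⟩ := Submodule.Quotient.mk_surjective _ y
      have hone := (hf a).2.1 0 (Submodule.Quotient.mk 1) ⟨1, SetLike.one_mem_graded 𝒜, rfl⟩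
      rw [show (Submodule.Quotient.mk r : R ⧸ (P a).toIdeal) = r • Submodule.Quotient.mk 1 by
        rw [← Submodule.Quotient.mk_smul, smul_eq_mul, mul_one], map_smul,
        pr_smul_left 𝒜 𝒳 hone]
      exact Submodule.smul_mem _ _ (LinearMap.mem_range_self _ _)) (hKc _ k.2)
    obtain ⟨e₁, s₁, hs₁, hs₁c, hmem⟩ := h1
    obtain ⟨e₂, s₂, hs₂, hs₂c, hmem₂⟩ : Into 𝒜 c (Submodule.span R (Set.range fun a => s a • F a))
        (s₁ • (k : X)) :=
      Into.of_span (fun y hy => by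
        obtain ⟨a, rfl⟩ := hy
        exact ⟨e a, s a, hs a, hsc a, Submodule.subset_span ⟨a, rfl⟩⟩) hmem
    refine ⟨e₂ + e₁, s₂ * s₁, SetLike.mul_mem_graded hs₂ hs₁,
      fun h => (Ideal.IsPrime.mem_or_mem ‹_› h).elim hs₂c hs₁c, ?_⟩
    obtain ⟨w, hw⟩ := Finsupp.mem_span_range_iff_exists_finsupp.1 hmem₂
    refine Finsupp.mem_span_range_iff_exists_finsupp.2 ⟨w, ?_⟩
    have h3 : (w.sum fun a r => r • z a) = (s₂ * s₁) • k := by
      refine K.injective_subtype ?_
      rw [map_finsuppSum, map_smul, mul_smul]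
      exact hw
    rw [← Submodule.Quotient.mk_smul, ← h3, ← Submodule.mkQ_apply, map_finsuppSum]
    exact Finsupp.sum_congr fun a _ => (map_smul (Submodule.mkQ _) _ _).symm

end count

section resolution

variable {M : Type u} [AddCommGroup M] [Module R M] {ℳ : ι → AddSubgroup M} [DirectSum.Decomposition ℳ]
  [SetLike.GradedSMul 𝒜 ℳ] (E : GrLC.StarInjRes 𝒜 ℳ) {c : Ideal R} [c.IsPrime]

/-- Minimality: the differential dies on the part killed by `c` after inverting homogeneous elements outside `c`. -/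
theorem into_ker (hmin0 : ∀ P : Submodule R (E.X 0).carrier, P.IsHomogeneous (E.X 0).gr → P ≠ ⊥ →
      P ⊓ LinearMap.range E.ε ≠ ⊥)
    (hmin : ∀ (n : ℕ) (P : Submodule R (E.X (n + 1)).carrier), P.IsHomogeneous (E.X (n + 1)).gr → P ≠ ⊥ →
      P ⊓ LinearMap.range (E.d n) ≠ ⊥)
    (j : ℕ) (h : ι) (x : (E.X j).carrier) (hx : x ∈ (E.X j).gr h) (hxc : ∀ r ∈ c, r • x = 0) :
    Into 𝒜 c (zc E c j) x := by
  by_cases hx0 : x = 0
  · rw [hx0]
    exact Into.zero
  have key : ∀ (K : Submodule R (E.X j).carrier), Homog (E.X j).gr K → K ≤ LinearMap.ker (E.d j) →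
      Submodule.span R {x} ⊓ K ≠ ⊥ → Into 𝒜 c (zc E c j) x := by
    intro K hK hKker hne
    obtain ⟨_, hy, hy0⟩ := Submodule.exists_mem_ne_zero_of_ne_bot hne
    obtain ⟨r₀, rfl⟩ := Submodule.mem_span_singleton.1 hy.1
    obtain ⟨e, s, hs, hsK, hs0⟩ := GrLCHull.exists_homog_smul 𝒜 (E.X j).gr hK hx hy.2 hy0
    exact ⟨e, s, hs, fun h' => hs0 (hxc s h'), (mem_zc E c).2 ⟨hKker hsK, fun r hr => by
      rw [smul_comm, hxc r hr, smul_zero]⟩⟩
  have hspan := (GrLCHull.homog_iff (E.X j).gr).2 (GrLCHull.homog_span_singleton 𝒜 (E.X j).gr hx)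
  have hne : Submodule.span R {x} ≠ ⊥ := by simpa using hx0
  match j with
  | 0 =>
    exact key _ (homog_range ℳ (E.X 0).gr E.ε_grHom) (E.exact_zero.symm.le) (hmin0 _ hspan hne)
  | n + 1 =>
    exact key _ (homog_range (E.X n).gr (E.X (n + 1)).gr (E.d_grHom n)) ((E.exact_succ n).symm.le) (hmin n _ hspan hne)

theorem bc_killed (hc : c.IsHomogeneous 𝒜)
    (hmin0 : ∀ P : Submodule R (E.X 0).carrier, P.IsHomogeneous (E.X 0).gr → P ≠ ⊥ →
      P ⊓ LinearMap.range E.ε ≠ ⊥)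
    (hmin : ∀ (n : ℕ) (P : Submodule R (E.X (n + 1)).carrier), P.IsHomogeneous (E.X (n + 1)).gr → P ≠ ⊥ →
      P ⊓ LinearMap.range (E.d n) ≠ ⊥) :
    ∀ (j : ℕ), ∀ z ∈ bc E c j, ∃ s, s ∉ c ∧ s • z = 0
  | 0, z, hz => by
    rw [bc, Submodule.mem_bot] at hz
    exact ⟨1, one_notMem, by rw [hz, smul_zero]⟩
  | j + 1, z, hz => by
    obtain ⟨x, hx, rfl⟩ := hz
    obtain ⟨e, s, -, hsc, hs⟩ : Into 𝒜 c (zc E c j) x := by
      rw [← sum_pr (E.X j).gr x]
      refine Into.sum _ fun h _ => into_ker E hmin0 hmin j h _ (pr_mem _ h x) fun r hr => ?_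
      exact (Submodule.mem_torsionBySet_iff _ _).1 (homog_torsion c hc (E.X j) x hx h) ⟨r, hr⟩
    exact ⟨s, hsc, by rw [← map_smul]; exact ((mem_zc E c).1 hs).1⟩

end resolution

end Groth.Agent.GrCore
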