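import Groth.Agent.GrCore.Laurent
import Groth.Agent.GrLCLib.Basic
import Groth.Agent.SerreReg.Descent
import Groth.Agent.FlatDepth.Localize

/-!
A prime of a multigraded ring over its homogeneous core.
-/

set_option autoImplicit false
set_option linter.unusedSectionVars false
set_option linter.style.haveILetI false
universe u

open scoped Classical AlgebraMonoidAlgebra
open DirectSum Groth.Agent.GrLCLib

noncomputable section

namespace Groth.Agent.GrCore

variable {ι : Type} [AddCommGroup ι] [DecidableEq ι]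
variable {R : Type u} [CommRing R] (𝒜 : ι → AddSubgroup R) [GradedRing 𝒜]

/-- The coaction of the torus, twisted by `s`. -/
def coact (s : ι →+ ι) : R →+* AddMonoidAlgebra R ι :=
  (DirectSum.toSemiring (fun d => (AddMonoidHom.mk' (fun a : 𝒜 d => (AddMonoidAlgebra.single (s d) (a : R) : AddMonoidAlgebra R ι))
      (fun a b => by simp [AddMonoidAlgebra.single_add])))
    (show (AddMonoidAlgebra.single (s 0) ((1 : R)) : AddMonoidAlgebra R ι) = 1 by rw [map_zero]; rfl)
    (fun {i j} a b => show (AddMonoidAlgebra.single (s (i + j)) ((a : R) * (b : R)) : AddMonoidAlgebra R ι) = _ from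
      by rw [map_add]; exact (AddMonoidAlgebra.single_mul_single ..).symm)).comp
    (DirectSum.decomposeRingEquiv 𝒜).toRingHom

lemma coact_of_mem (s : ι →+ ι) {d : ι} {x : R} (hx : x ∈ 𝒜 d) :
    coact 𝒜 s x = AddMonoidAlgebra.single (s d) x := by
  simp only [coact, RingHom.comp_apply, RingEquiv.toRingHom_eq_coe, RingEquiv.coe_toRingHom]
  rw [show DirectSum.decomposeRingEquiv 𝒜 x = DirectSum.of (fun i => 𝒜 i) d ⟨x, hx⟩ from
    DirectSum.decompose_of_mem 𝒜 hx, DirectSum.toSemiring_of]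
  rfl

/-- The endomorphism of the group algebra extending the coaction. -/
def twist (s : ι →+ ι) : AddMonoidAlgebra R ι →+* AddMonoidAlgebra R ι :=
  AddMonoidAlgebra.liftNCRingHom (coact 𝒜 s) (AddMonoidAlgebra.of R ι) fun _ _ => Commute.all _ _

lemma twist_single (s : ι →+ ι) (n : ι) (r : R) :
    twist 𝒜 s (AddMonoidAlgebra.single n r) = coact 𝒜 s r * AddMonoidAlgebra.single n (1 : R) := by
  rw [twist, AddMonoidAlgebra.liftNCRingHom_single]
  rfl

lemma twist_C (s : ι →+ ι) (r : R) : twist 𝒜 s (AddMonoidAlgebra.single 0 r) = coact 𝒜 s r := by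
  refine (twist_single 𝒜 s 0 r).trans ?_
  rw [← AddMonoidAlgebra.one_def, mul_one]

lemma twist_comp {s t : ι →+ ι} (hst : ∀ d, s d + t d = 0) :
    (twist 𝒜 s).comp (twist 𝒜 t) = RingHom.id _ := by
  refine AddMonoidAlgebra.ringHom_ext (fun r => ?_) (fun n => ?_)
  · show twist 𝒜 s (twist 𝒜 t (AddMonoidAlgebra.single 0 r)) = AddMonoidAlgebra.single 0 r
    induction r using DirectSum.Decomposition.inductionOn 𝒜 with
    | zero => simp
    | @homogeneous d x =>
      rw [twist_single, coact_of_mem 𝒜 t x.2, AddMonoidAlgebra.single_mul_single, twist_single, mul_one,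
        coact_of_mem 𝒜 s x.2, AddMonoidAlgebra.single_mul_single, mul_one, add_zero, hst]
    | add a b ha hb => simp only [AddMonoidAlgebra.single_add, map_add, ha, hb]
  · show twist 𝒜 s (twist 𝒜 t (AddMonoidAlgebra.single n 1)) = AddMonoidAlgebra.single n 1
    rw [twist_single, map_one, one_mul, twist_single, map_one, one_mul]

variable (P : Ideal R)

/-- The homogeneous core, as an ideal. -/
abbrev co : Ideal R := (Ideal.homogeneousCore 𝒜 P).toIdeal

lemma mem_co_of_homogeneous {e : ι} {a : R} (ha : a ∈ 𝒜 e) (hP : a ∈ P) : a ∈ co 𝒜 P :=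
  Ideal.mem_homogeneousCore_of_homogeneous_of_mem ⟨e, ha⟩ hP

lemma co_le : co 𝒜 P ≤ P := Ideal.toIdeal_homogeneousCore_le 𝒜 P

lemma co_co : co 𝒜 (co 𝒜 P) = co 𝒜 P :=
  le_antisymm (co_le 𝒜 _) (le_of_eq (Ideal.IsHomogeneous.toIdeal_homogeneousCore_eq_self
    (Ideal.homogeneousCore 𝒜 P).isHomogeneous).symm)

local notation "B₀" => AddMonoidAlgebra R ι
local notation "B'" => AddMonoidAlgebra (R ⧸ co 𝒜 P) ι

/-- Reduction modulo the core. -/
def red : B₀ →+* B' := AddMonoidAlgebra.mapRingHom ι (Ideal.Quotient.mk (co 𝒜 P))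

lemma red_surjective : Function.Surjective (red 𝒜 P) := fun b => by
  induction b using AddMonoidAlgebra.induction_linear with
  | zero => exact ⟨0, map_zero _⟩
  | single g r =>
    obtain ⟨r, rfl⟩ := Ideal.Quotient.mk_surjective r
    exact ⟨AddMonoidAlgebra.single g r, AddMonoidAlgebra.mapRingHom_single ..⟩
  | add a b ha hb =>
    obtain ⟨x, rfl⟩ := ha
    obtain ⟨y, rfl⟩ := hb
    exact ⟨x + y, map_add _ _ _⟩

/-- The twist descended to the quotient by the core. -/
def twist' (s : ι →+ ι) : B' →+* B' :=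
  AddMonoidAlgebra.liftNCRingHom
    (Ideal.Quotient.lift (co 𝒜 P) ((red 𝒜 P).comp (coact 𝒜 s)) (fun a ha => by
      rw [← sum_pr 𝒜 a, map_sum]
      refine Finset.sum_eq_zero fun g _ => ?_
      rw [RingHom.comp_apply, coact_of_mem 𝒜 s (pr_mem 𝒜 g a), red, AddMonoidAlgebra.mapRingHom_single,
        show Ideal.Quotient.mk (co 𝒜 P) (pr 𝒜 g a) = 0 from Ideal.Quotient.eq_zero_iff_mem.2
          ((Ideal.homogeneousCore 𝒜 P).isHomogeneous g ha), AddMonoidAlgebra.single_zero]))
    (AddMonoidAlgebra.of _ ι) fun _ _ => Commute.all _ _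

lemma twist'_red (s : ι →+ ι) (x : B₀) : twist' 𝒜 P s (red 𝒜 P x) = red 𝒜 P (twist 𝒜 s x) := by
  induction x using AddMonoidAlgebra.induction_linear with
  | zero => simp
  | single g r =>
    rw [twist_single, map_mul, red, AddMonoidAlgebra.mapRingHom_single, twist',
      AddMonoidAlgebra.liftNCRingHom_single, Ideal.Quotient.lift_mk, AddMonoidAlgebra.mapRingHom_single, map_one]
    rfl
  | add a b ha hb => simp only [map_add, ha, hb]

lemma twist'_comp {s t : ι →+ ι} (hst : ∀ d, s d + t d = 0) :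
    (twist' 𝒜 P s).comp (twist' 𝒜 P t) = RingHom.id _ := by
  refine RingHom.ext fun b => ?_
  obtain ⟨x, rfl⟩ := red_surjective 𝒜 P b
  rw [RingHom.comp_apply, twist'_red, twist'_red, RingHom.id_apply]
  exact congrArg (red 𝒜 P) (RingHom.congr_fun (twist_comp 𝒜 hst) x)

/-- The descended twist as an automorphism. -/
def twistEquiv : B' ≃+* B' :=
  RingEquiv.ofRingHom (twist' 𝒜 P (AddMonoidHom.id ι)) (twist' 𝒜 P (-AddMonoidHom.id ι))
    (twist'_comp 𝒜 P fun d => add_neg_cancel d) (twist'_comp 𝒜 P fun d => neg_add_cancel d)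

/-- The extension of `P` to the group algebra over the quotient by the core. -/
def extP : Ideal B' :=
  RingHom.ker (AddMonoidAlgebra.mapRingHom ι (Ideal.Quotient.factor (co_le 𝒜 P)))

/-- The twisted prime. -/
def twistedP : Ideal B' := (extP 𝒜 P).comap (twistEquiv 𝒜 P : B' →+* B')

lemma extP_comap : (extP 𝒜 P).comap (algebraMap (R ⧸ co 𝒜 P) B') =
    P.map (Ideal.Quotient.mk (co 𝒜 P)) := by
  ext x
  obtain ⟨r, rfl⟩ := Ideal.Quotient.mk_surjective x
  rw [Ideal.mem_comap, extP, RingHom.mem_ker, show algebraMap (R ⧸ co 𝒜 P) B' (Ideal.Quotient.mk _ r) =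
    AddMonoidAlgebra.single 0 (Ideal.Quotient.mk _ r) from rfl, AddMonoidAlgebra.mapRingHom_single,
    AddMonoidAlgebra.single_eq_zero, Ideal.Quotient.factor_mk, Ideal.Quotient.eq_zero_iff_mem,
    Ideal.mem_quotient_iff_mem_sup, sup_eq_left.2 (co_le 𝒜 P)]

lemma twistedP_comap : (twistedP 𝒜 P).comap (algebraMap (R ⧸ co 𝒜 P) B') = ⊥ := by
  refine le_antisymm (fun x hx => ?_) bot_le
  obtain ⟨r, rfl⟩ := Ideal.Quotient.mk_surjective x
  rw [Ideal.mem_comap, twistedP, Ideal.mem_comap, extP, RingHom.mem_ker] at hx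
  have h1 : (twistEquiv 𝒜 P : B' →+* B') (algebraMap (R ⧸ co 𝒜 P) B' (Ideal.Quotient.mk _ r)) =
      red 𝒜 P (coact 𝒜 (AddMonoidHom.id ι) r) := by
    rw [show algebraMap (R ⧸ co 𝒜 P) B' (Ideal.Quotient.mk _ r) = red 𝒜 P (AddMonoidAlgebra.single 0 r) from by
      rw [red, AddMonoidAlgebra.mapRingHom_single]; rfl]
    show twist' 𝒜 P _ _ = _
    rw [twist'_red, twist_C]
  rw [h1] at hx
  have hcoeff : ∀ (a : R) (g : ι), (AddMonoidAlgebra.mapRingHom ι (Ideal.Quotient.factor (co_le 𝒜 P))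
      (red 𝒜 P (coact 𝒜 (AddMonoidHom.id ι) a))).coeff g = Ideal.Quotient.mk P (pr 𝒜 g a) := by
    intro a g
    induction a using DirectSum.Decomposition.inductionOn 𝒜 with
    | zero => simp
    | @homogeneous d y =>
      rw [coact_of_mem 𝒜 _ y.2, red, AddMonoidAlgebra.mapRingHom_single, AddMonoidAlgebra.mapRingHom_single,
        Ideal.Quotient.factor_mk, AddMonoidHom.id_apply, AddMonoidAlgebra.coeff_single]
      rcases eq_or_ne d g with rfl | hne
      · rw [Finsupp.single_eq_same, pr_of_mem 𝒜 y.2]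
      · rw [Finsupp.single_eq_of_ne hne.symm, pr_of_mem_ne 𝒜 y.2 hne, map_zero]
    | add a b ha hb => simp [map_add, ha, hb]
  rw [Ideal.mem_bot, Ideal.Quotient.eq_zero_iff_mem, ← sum_pr 𝒜 r]
  refine Submodule.sum_mem _ fun g _ => mem_co_of_homogeneous 𝒜 P (pr_mem 𝒜 g r) ?_
  rw [← Ideal.Quotient.eq_zero_iff_mem, ← hcoeff, hx]
  rfl

variable [Module.Free ℤ ι] [Module.Finite ℤ ι] [P.IsPrime] [(co 𝒜 P).IsPrime]

instance : (extP 𝒜 P).IsPrime :=
  haveI := isDomain_group (ι := ι) (R ⧸ P)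
  RingHom.ker_isPrime _

instance : (twistedP 𝒜 P).IsPrime := Ideal.IsPrime.comap _

instance : (P.map (Ideal.Quotient.mk (co 𝒜 P))).IsPrime :=
  Ideal.map_isPrime_of_surjective Ideal.Quotient.mk_surjective (by rw [Ideal.mk_ker]; exact co_le 𝒜 P)

theorem twistedP_regular [IsNoetherianRing R] :
    IsRegularLocalRing (Localization.AtPrime (twistedP 𝒜 P)) := by
  let R' := R ⧸ co 𝒜 P
  let K := FractionRing R'
  haveI := noeth_group (ι := ι) R'
  haveI := isLocalization_group (ι := ι) (nonZeroDivisors R') K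
  haveI hK : IsRegularRing K := inferInstance
  haveI hT : IsRegularRing (AddMonoidAlgebra K ι) := regular_group K hK
  let M := Algebra.algebraMapSubmonoid B' (nonZeroDivisors R')
  have hd : Disjoint (M : Set B') (twistedP 𝒜 P) := by
    rw [Set.disjoint_left]
    rintro _ ⟨a, ha, rfl⟩ hmem
    refine nonZeroDivisors.ne_zero ha ?_
    have h1 : a ∈ (twistedP 𝒜 P).comap (algebraMap R' B') := hmem
    rwa [twistedP_comap, Ideal.mem_bot] at h1
  haveI := IsLocalization.isPrime_of_isPrime_disjoint M (AddMonoidAlgebra K ι) _ inferInstance hd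
  let Q := (twistedP 𝒜 P).map (algebraMap B' (AddMonoidAlgebra K ι))
  haveI : IsRegularLocalRing (Localization.AtPrime Q) := hT.isRegularLocalRing_localization Q
  haveI := IsLocalization.isLocalization_isLocalization_atPrime_isLocalization M (Localization.AtPrime Q) Q
  have hQ : Q.comap (algebraMap B' (AddMonoidAlgebra K ι)) = twistedP 𝒜 P :=
    IsLocalization.under_map_of_isPrime_disjoint M (AddMonoidAlgebra K ι) inferInstance hd
  exact IsRegularLocalRing.of_ringEquiv (R := Localization.AtPrime Q)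
    (IsLocalization.ringEquivOfRingEquiv (M := (Q.comap (algebraMap B' (AddMonoidAlgebra K ι))).primeCompl)
      (T := (twistedP 𝒜 P).primeCompl) (Localization.AtPrime Q) (Localization.AtPrime (twistedP 𝒜 P))
      (RingEquiv.refl B') (by ext x; simp [Ideal.mem_primeCompl_iff, hQ]))

/-- Regularity of the fibre over the core. -/
theorem quot_regular [IsNoetherianRing R] :
    IsRegularLocalRing (Localization.AtPrime (P.map (Ideal.Quotient.mk (co 𝒜 P)))) := by
  let R' := R ⧸ co 𝒜 P
  haveI := noeth_group (ι := ι) R'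
  haveI := flat_group (ι := ι) R'
  haveI := twistedP_regular 𝒜 P
  haveI hE : IsRegularLocalRing (Localization.AtPrime (extP 𝒜 P)) :=
    IsRegularLocalRing.of_ringEquiv (R := Localization.AtPrime (twistedP 𝒜 P))
      (IsLocalization.ringEquivOfRingEquiv (M := (twistedP 𝒜 P).primeCompl) (T := (extP 𝒜 P).primeCompl)
        (Localization.AtPrime (twistedP 𝒜 P)) (Localization.AtPrime (extP 𝒜 P)) (twistEquiv 𝒜 P) (by
          ext x
          simp only [Submonoid.mem_map, Ideal.mem_primeCompl_iff, twistedP, Ideal.mem_comap]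
          exact ⟨fun ⟨y, hy, hyx⟩ => hyx ▸ hy, fun hx => ⟨(twistEquiv 𝒜 P).symm x, by simpa using hx, by simp⟩⟩))
  let p := P.map (Ideal.Quotient.mk (co 𝒜 P))
  haveI : (extP 𝒜 P).LiesOver p := ⟨(extP_comap 𝒜 P).symm⟩
  letI := Localization.AtPrime.algebraOfLiesOver p (extP 𝒜 P)
  obtain ⟨h1, h2, -⟩ := FlatDepth.atPrime_setup (extP 𝒜 P) p
  haveI := h1
  haveI := h2
  exact SerreReg.isRegularLocalRing_of_flat (Localization.AtPrime p) (Localization.AtPrime (extP 𝒜 P))

end Groth.Agent.GrCore
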